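import Groth.Agent.DepthSections.Converse
import Groth.Agent.ZClosLib.Main
import Mathlib

/-! Pointwise `Z`-purity is depth one at the generizations in `Z`. -/

set_option linter.style.haveILetI false
set_option backward.isDefEq.respectTransparency false

namespace Groth.Agent.DepthSections

open AlgebraicGeometry CategoryTheory TopologicalSpace Opposite
open Groth.Agent.QCohLib (germ_smul)

universe u

variable {X : Scheme.{u}} (F : X.Modules)

theorem one_le_depth_iff_killed [IsLocallyNoetherian X] (hF : Coh.IsCoh F) (x : X) :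
    (1 : ℕ∞) ≤ LocCoh.depth (X.presheaf.stalk x) (F.presheaf.stalk x) ↔
      ∀ q : F.presheaf.stalk x,
        (∀ r ∈ IsLocalRing.maximalIdeal (X.presheaf.stalk x), r • q = 0) → q = 0 := by
  haveI := CohFinite.finite_stalk hF x
  constructor
  · intro h q hq
    obtain ⟨r, hr, hreg⟩ := DepthLib.one_le_idealDepth_iff.mp h
    exact hreg ((hq r hr).trans (smul_zero _).symm)
  · intro h
    refine DepthLib.one_le_idealDepth_iff_forall_associatedPrimes.mpr fun p hp hle => ?_
    obtain ⟨hpr, q, hq⟩ := hp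
    have hpm := (IsLocalRing.maximalIdeal.isMaximal _).eq_of_le hpr.ne_top hle
    subst hpm
    obtain ⟨m, hm0, hm⟩ := exists_killed_of_radical_eq (A := X.presheaf.stalk x) (m := q) (by
      rw [hq]
      congr 1
      ext r
      simp [Submodule.mem_colon_singleton])
    exact hm0 (h m hm)

/-- An element of a stalk killed by the maximal ideal comes, up to a unit, from a section supported on
the closure of the point. -/
theorem exists_section_supported [IsLocallyNoetherian X] [F.IsQuasicoherent] {W : X.Opens} (hW : IsAffineOpen W)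
    {y : X} (hy : y ∈ W) (q : F.presheaf.stalk y) (hq0 : q ≠ 0)
    (hq : ∀ r ∈ IsLocalRing.maximalIdeal (X.presheaf.stalk y), r • q = 0) :
    ∃ m : Γ(F, W), F.presheaf.germ W y hy m ≠ 0 ∧
      ∀ z (hz : z ∈ W), ¬ y ⤳ z → F.presheaf.germ W z hz m = 0 := by
  classical
  haveI : IsNoetherianRing Γ(X, W) := IsLocallyNoetherian.component_noetherian (X := X) ⟨W, hW⟩
  let p := (hW.primeIdealOf ⟨y, hy⟩).asIdeal
  letI : Algebra Γ(X, W) (X.presheaf.stalk y) := TopCat.Presheaf.algebra_section_stalk X.presheaf (⟨y, hy⟩ : W)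
  haveI : IsLocalization.AtPrime (X.presheaf.stalk y) p := hW.isLocalization_stalk ⟨y, hy⟩
  letI := QCohLib.germModule F y hy
  haveI := QCohLib.isLocalizedModule_germ (M := F) hW y hy
  obtain ⟨S, hS⟩ := IsNoetherian.noetherian p
  have hunit : ∀ c : p.primeCompl, IsUnit (X.presheaf.germ W y hy (c : Γ(X, W))) := fun c =>
    (X.mem_basicOpen _ y hy).mp ((InvExtend.mem_basicOpen_iff hW hy _).mpr c.2)
  obtain ⟨⟨m₀, c⟩, hc⟩ := IsLocalizedModule.surj p.primeCompl (QCohLib.germLinearMap F y hy) q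
  have hgerm : F.presheaf.germ W y hy m₀ = X.presheaf.germ W y hy (c : Γ(X, W)) • q := hc.symm
  have hkill : ∀ f ∈ S, ∃ d : p.primeCompl, d • (f • m₀) = 0 := fun f hf => by
    refine (IsLocalizedModule.eq_zero_iff p.primeCompl (QCohLib.germLinearMap F y hy)).mp ?_
    show F.presheaf.germ W y hy (f • m₀) = 0
    rw [germ_smul, hgerm, smul_comm, hq, smul_zero]
    rw [IsLocalRing.mem_maximalIdeal, mem_nonunits_iff]
    intro hu
    exact (InvExtend.mem_basicOpen_iff hW hy f).mp ((X.mem_basicOpen f y hy).mpr hu)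
      (hS ▸ Ideal.subset_span hf : f ∈ p)
  choose! d hd using hkill
  let D : p.primeCompl := ∏ f ∈ S, d f
  refine ⟨(D : Γ(X, W)) • m₀, fun h0 => ?_, fun z hz hns => ?_⟩
  · rw [germ_smul, hgerm] at h0
    exact hq0 ((hunit c).smul_eq_zero.mp ((hunit D).smul_eq_zero.mp h0))
  · obtain ⟨f, hf, hfz⟩ : ∃ f ∈ S, z ∈ X.basicOpen f := by
      by_contra! hne
      refine hns ((InvExtend.specializes_iff hW hz hy).mpr ?_)
      show p ≤ _
      rw [← hS]
      refine Ideal.span_le.mpr fun f hf => ?_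
      by_contra hfz
      exact hne f hf ((InvExtend.mem_basicOpen_iff hW hz f).mpr hfz)
    refine ((X.mem_basicOpen f z hz).mp hfz).smul_eq_zero.mp ?_
    rw [← germ_smul]
    have h0 : f • (D : Γ(X, W)) • m₀ = 0 := by
      have : D = (∏ g ∈ S.erase f, d g) * d f := by
        rw [Finset.prod_erase_mul _ _ hf]
      rw [this, Submonoid.coe_mul, smul_comm, mul_smul]
      erw [hd f hf]
      exact smul_zero _
    rw [h0, map_zero]

variable (Z : Set X)

theorem isZPureAt_iff [IsLocallyNoetherian X] (hZ : StableUnderSpecialization Z) (hF : Coh.IsCoh F) (x : X) :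
    ZClos.IsZPureAt Z F x ↔
      ∀ x' : X, x' ⤳ x → x' ∈ Z → (1 : ℕ∞) ≤ LocCoh.depth (X.presheaf.stalk x') (F.presheaf.stalk x') := by
  haveI := hF.1
  constructor
  · intro hinj y hyx hyZ
    rw [one_le_depth_iff_killed F hF]
    intro q hq
    by_contra hq0
    obtain ⟨W, hW, hxW, -⟩ := exists_isAffineOpen_mem_and_subset (X := X) (x := x) (U := ⊤) trivial
    have hyW : y ∈ W := hyx.mem_open W.isOpen hxW
    obtain ⟨m, hm0, hm⟩ := exists_section_supported F hW hyW q hq0 hq
    let T : ZClos.Cl Z := ⟨⟨closure {y}, isClosed_closure⟩, fun z hz =>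
      hZ (specializes_iff_mem_closure.mpr hz) hyZ⟩
    have hres : ZClosLib.res F (ZClosLib.cut_le T.U W) m = 0 := by
      refine QCohLib.section_ext _ _ fun z hz => ?_
      rw [map_zero, ZClosLib.germ_res]
      exact hm z _ fun hs => (ZClosLib.mem_cut.mp hz).1 (specializes_iff_mem_closure.mp hs)
    have h0 : QCohLib.stalkHom (ZClos.rhoApp Z F) x (F.presheaf.germ W x hxW m) = 0 := by
      rw [QCohLib.stalkHom_germ, ZClosLib.rho_app_eq T, hres, map_zero, map_zero]
    have hgx : F.presheaf.germ W x hxW m = 0 := hinj (h0.trans (map_zero _).symm)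
    obtain ⟨O, hxO, i₁, i₂, he⟩ := TopCat.Presheaf.germ_eq F.presheaf x hxW hxW m 0
      (hgx.trans (map_zero _).symm)
    refine hm0 ?_
    rw [← TopCat.Presheaf.germ_res_apply F.presheaf i₁ y (hyx.mem_open O.isOpen hxO) m, he, map_zero, map_zero]
  · intro h
    show Function.Injective (QCohLib.stalkHom (ZClos.rhoApp Z F) x)
    rw [injective_iff_map_eq_zero]
    intro a ha
    obtain ⟨W, hxW, s, rfl⟩ := F.presheaf.exists_germ_eq a
    rw [QCohLib.stalkHom_germ, ZClosLib.rho_app_eq (⊥ : ZClos.Cl Z)] at ha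
    obtain ⟨T, _hT, W', hW', hxW', he⟩ := ZClosLib.exists_res_eq_zero x ⊥ W hxW _ ha
    rw [ZClosLib.res_res] at he
    by_contra hne
    rw [← ZClosLib.germ_res F hW' x hxW'] at hne
    obtain ⟨y, hy, hass, hyne⟩ := AssPoints.exists_isWeakAssPoint_of_germ_ne_zero hF.1 hxW' _ hne
    have hyW' := hy.mem_open W'.isOpen hxW'
    by_cases hyZ : y ∈ Z
    · haveI := CohFinite.finite_stalk hF y
      obtain ⟨m, hm⟩ := hass
      obtain ⟨q, hq0, hq⟩ := exists_killed_of_radical_eq hm
      exact hq0 ((one_le_depth_iff_killed F hF y).mp (h y hy hyZ) q hq)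
    · refine hyne ?_
      have hyc : y ∈ ZClosLib.cut T.U W' := ZClosLib.mem_cut.mpr ⟨fun hT => hyZ (T.2 hT), hyW'⟩
      have h2 := congrArg (F.presheaf.germ (ZClosLib.cut T.U W') y hyc) he
      rw [ZClosLib.germ_res, map_zero] at h2
      rw [ZClosLib.germ_res]
      exact h2

end Groth.Agent.DepthSections
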