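import Groth.Agent.DepthSections.Basic
import Groth.Agent.FlatAscent.AtPrime
import Groth.Agent.ParaFLib.Basic
import Groth.Agent.InvBasic.QCoh
import Mathlib

/-! Applications of the extension of sections across depth two. -/

set_option linter.style.haveILetI false

namespace Groth.Agent.DepthSections

open AlgebraicGeometry CategoryTheory TopologicalSpace Opposite

universe u

variable {X : Scheme.{u}}

theorem isQuasicoherent_structureModule : (Coh.structureModule X).IsQuasicoherent :=
  Groth.Agent.InvBasic.isQuasicoherent_structureModule X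

theorem isCoh_structureModule : Coh.IsCoh (Coh.structureModule X) :=
  Groth.Agent.QCohLib.isCoh_iff.mpr
    ⟨isQuasicoherent_structureModule, fun U => Module.Finite.self Γ(X, U.1)⟩

/-- Depth of the stalk of the structure module is the depth of the local ring. -/
theorem depth_structureModule_stalk (x : X) :
    LocCoh.depth (X.presheaf.stalk x) ((Coh.structureModule X).presheaf.stalk x) =
      LocCoh.depth (X.presheaf.stalk x) (X.presheaf.stalk x) := by
  obtain ⟨W, hW, hxW, -⟩ := exists_isAffineOpen_mem_and_subset (X := X) (x := x) (U := ⊤) trivial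
  haveI := isQuasicoherent_structureModule (X := X)
  rw [← depth_localization_eq (Coh.structureModule X) hW x hxW]
  let p := (hW.primeIdealOf ⟨x, hxW⟩).asIdeal
  letI : Algebra Γ(X, W) (X.presheaf.stalk x) := TopCat.Presheaf.algebra_section_stalk X.presheaf (⟨x, hxW⟩ : W)
  haveI : IsLocalization.AtPrime (X.presheaf.stalk x) p := hW.isLocalization_stalk ⟨x, hxW⟩
  rw [Groth.Agent.FlatAscent.depth_eq_of_ringEquiv
    (IsLocalization.algEquiv p.primeCompl (Localization.AtPrime p) (X.presheaf.stalk x)).toRingEquiv]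
  exact Groth.Agent.DepthLib.depth_congr
    ((IsLocalizedModule.iso p.primeCompl
      (Algebra.linearMap Γ(X, W) (Localization.AtPrime p))).extendScalarsOfIsLocalization
      p.primeCompl (Localization.AtPrime p))

/-- Functions extend uniquely across depth two. -/
theorem bijective_restrict_ring [IsLocallyNoetherian X] (U : X.Opens)
    (h : ∀ x : X, x ∉ U → 2 ≤ LocCoh.depth (X.presheaf.stalk x) (X.presheaf.stalk x)) (V : X.Opens) :
    Function.Bijective (X.presheaf.map (homOfLE (inf_le_left : V ⊓ U ≤ V)).op) :=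
  bijective_restrict (Coh.structureModule X) isCoh_structureModule U
    (fun x hx => (depth_structureModule_stalk x).symm ▸ h x hx) V

/-- Connected components of a locally Noetherian scheme are open. -/
theorem isOpen_connectedComponent [IsLocallyNoetherian X] (x : X) : IsOpen (connectedComponent x) := by
  rw [isOpen_iff_forall_mem_open]
  intro y hy
  obtain ⟨W, hW, hyW, -⟩ := exists_isAffineOpen_mem_and_subset (X := X) (x := y) (U := ⊤) trivial
  haveI : IsNoetherianRing Γ(X, W) := IsLocallyNoetherian.component_noetherian (X := X) ⟨W, hW⟩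
  haveI := noetherianSpace_of_isAffineOpen W hW
  have hfin := (NoetherianSpace.finite_irreducibleComponents (α := W)).sdiff
    (t := {Z | (⟨y, hyW⟩ : W) ∈ Z})
  have hcl : IsClosed (⋃₀ (irreducibleComponents W \ {Z | (⟨y, hyW⟩ : W) ∈ Z})) :=
    Set.sUnion_eq_biUnion ▸ hfin.isClosed_biUnion fun Z hZ => isClosed_of_mem_irreducibleComponents Z hZ.1
  refine ⟨Subtype.val '' (⋃₀ (irreducibleComponents W \ {Z | (⟨y, hyW⟩ : W) ∈ Z}))ᶜ, ?_,
    W.2.isOpenMap_subtype_val _ hcl.isOpen_compl, ⟨⟨y, hyW⟩, fun ⟨Z, hZ, hyZ⟩ => hZ.2 hyZ, rfl⟩⟩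
  rintro _ ⟨z, hz, rfl⟩
  have hzZ := mem_irreducibleComponent (x := z)
  have hyZ : (⟨y, hyW⟩ : W) ∈ irreducibleComponent z := by
    by_contra hn
    exact hz ⟨_, ⟨irreducibleComponent_mem_irreducibleComponents z, hn⟩, hzZ⟩
  have hpre : _root_.IsPreconnected (Subtype.val '' irreducibleComponent z : Set X) :=
    (isIrreducible_irreducibleComponent.isConnected.isPreconnected).image _
      continuous_subtype_val.continuousOn
  rw [connectedComponent_eq hy]
  exact hpre.subset_connectedComponent (Set.mem_image_of_mem _ hyZ) (Set.mem_image_of_mem _ hzZ)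

/-- If functions extend uniquely from `V ∩ U` to `V` and `V` is preconnected, so is `V ∩ U`. -/
theorem isPreconnected_inf {V U : X.Opens}
    (h : Function.Bijective (X.presheaf.map (homOfLE (inf_le_left : V ⊓ U ≤ V)).op))
    (hV : _root_.IsPreconnected (V : Set X)) : _root_.IsPreconnected ((V ⊓ U : X.Opens) : Set X) := by
  intro a b ha hb hsub hane hbne
  by_contra hab
  let A : X.Opens := ⟨a, ha⟩ ⊓ (V ⊓ U)
  let B : X.Opens := ⟨b, hb⟩ ⊓ (V ⊓ U)
  have hdisj : A ⊓ B = ⊥ := by
    refine Opens.ext (Set.eq_empty_iff_forall_notMem.mpr fun z hz => hab ⟨z, hz.1.2, hz.1.1, hz.2.1⟩)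
  let Us : Bool → X.Opens := fun i => cond i A B
  let sf : ∀ i, Γ(X, Us i) := fun i => match i with
    | true => 1
    | false => 0
  have hcomp : TopCat.Presheaf.IsCompatible X.sheaf.obj Us sf := by
    intro i j
    rcases i with _ | _ <;> rcases j with _ | _
    · rfl
    · haveI : Subsingleton Γ(X, B ⊓ A) := by
        rw [inf_comm, hdisj]
        exact CommRingCat.subsingleton_of_isTerminal (X.sheaf.isTerminalOfEmpty)
      exact Subsingleton.elim (α := Γ(X, B ⊓ A)) _ _
    · haveI : Subsingleton Γ(X, A ⊓ B) := by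
        rw [hdisj]
        exact CommRingCat.subsingleton_of_isTerminal (X.sheaf.isTerminalOfEmpty)
      exact Subsingleton.elim (α := Γ(X, A ⊓ B)) _ _
    · rfl
  have hle : ∀ i, Us i ≤ V ⊓ U := fun i => by cases i <;> exact inf_le_right
  have hcov : V ⊓ U ≤ iSup Us := fun z hz => Opens.mem_iSup.mpr <| by
    rcases hsub hz with hza | hzb
    · exact ⟨true, hza, hz⟩
    · exact ⟨false, hzb, hz⟩
  obtain ⟨e, he, huniq⟩ : ∃ e : Γ(X, V ⊓ U), (∀ i, X.presheaf.map (homOfLE (hle i)).op e = sf i) ∧
      ∀ y : Γ(X, V ⊓ U), (∀ i, X.presheaf.map (homOfLE (hle i)).op y = sf i) → y = e := by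
    obtain ⟨e, he, hu⟩ := X.sheaf.existsUnique_gluing' Us (V ⊓ U) (fun i => homOfLE (hle i)) hcov sf hcomp
    exact ⟨e, he, hu⟩
  have hee : e * e = e := huniq (e * e) fun i => by
    rw [map_mul, he i]
    cases i <;> simp [sf]
  obtain ⟨E', hE'⟩ := h.2 e
  have hE2 : E' * E' = E' := h.1 (by rw [map_mul, hE', hee])
  have hVsub : (V : Set X) ⊆ X.basicOpen E' ∪ X.basicOpen (1 - E') := by
    intro z hz
    rcases IsLocalRing.isUnit_or_isUnit_one_sub_self (X.presheaf.germ V z hz E') with hu | hu
    · exact Or.inl ((X.mem_basicOpen E' z hz).mpr hu)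
    · refine Or.inr ((X.mem_basicOpen (1 - E') z hz).mpr ?_)
      rwa [map_sub, map_one]
  have hbd : (X.basicOpen E' : Set X) ∩ X.basicOpen (1 - E') = ∅ := by
    rw [← Opens.coe_inf, ← X.basicOpen_mul, mul_sub, mul_one, hE2, sub_self, Scheme.basicOpen_zero]
    rfl
  obtain ⟨pa, hpaV, hpa⟩ := hane
  obtain ⟨pb, hpbV, hpb⟩ := hbne
  have hcase := hV _ _ (X.basicOpen E').2 (X.basicOpen (1 - E')).2 hVsub
  have hgA : X.presheaf.germ V pa hpaV.1 E' = 1 := by
    rw [← TopCat.Presheaf.germ_res_apply X.presheaf (homOfLE ((hle true).trans inf_le_left)) pa ⟨hpa, hpaV⟩ E',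
      show (homOfLE ((hle true).trans inf_le_left)).op = (homOfLE (inf_le_left : V ⊓ U ≤ V)).op ≫ (homOfLE (hle true)).op from rfl,
      Functor.map_comp, ConcreteCategory.comp_apply, hE',
      show X.presheaf.map (homOfLE (hle true)).op e = sf true from he true]
    exact map_one _
  have hgB : X.presheaf.germ V pb hpbV.1 E' = 0 := by
    rw [← TopCat.Presheaf.germ_res_apply X.presheaf (homOfLE ((hle false).trans inf_le_left)) pb ⟨hpb, hpbV⟩ E',
      show (homOfLE ((hle false).trans inf_le_left)).op = (homOfLE (inf_le_left : V ⊓ U ≤ V)).op ≫ (homOfLE (hle false)).op from rfl,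
      Functor.map_comp, ConcreteCategory.comp_apply, hE',
      show X.presheaf.map (homOfLE (hle false)).op e = sf false from he false]
    exact map_zero _
  have h1 : pa ∈ X.basicOpen E' := (X.mem_basicOpen E' pa hpaV.1).mpr (by rw [hgA]; exact isUnit_one)
  have h2 : pb ∈ X.basicOpen (1 - E') := (X.mem_basicOpen (1 - E') pb hpbV.1).mpr (by
    rw [map_sub, map_one, hgB, sub_zero]; exact isUnit_one)
  obtain ⟨z, -, hz⟩ := hcase ⟨pa, hpaV.1, h1⟩ ⟨pb, hpbV.1, h2⟩
  exact hbd.le hz

/-- Restriction of morphisms to an open with complement of depth at least two is bijective. -/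
theorem bijective_restrict_hom [IsLocallyNoetherian X] (E F : X.Modules) (hE : Coh.IsCoh E) (U : X.Opens)
    (hdepth : ∀ y : X, y ∉ U → (2 : ℕ∞) ≤ LocCoh.depth (X.presheaf.stalk y) (E.presheaf.stalk y)) :
    Function.Bijective (fun φ : F ⟶ E => (Scheme.Modules.restrictFunctor U.ι).map φ) := by
  refine Groth.Agent.ParaFLib.bijective_map U.ι (L := F) (L' := E) ?_
  rw [Scheme.Opens.opensRange_ι]
  exact bijective_restrict E hE U hdepth

end Groth.Agent.DepthSections
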