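import Groth.Agent.DepthSections.Apps
import Groth.Prelude.Def_FlatMod2
import Groth.Prelude.Def_Pi1
import Groth.Agent.DepthLib.SerreNormal
import Groth.Agent.ParaFLib.Basic
import Mathlib

/-! Sections of flat quasi-coherent modules extend across depth two. -/

set_option linter.style.haveILetI false

namespace Groth.Agent.DepthSections

open AlgebraicGeometry CategoryTheory TopologicalSpace
open Groth.Agent.InvExtend (pt pt_mem primeIdealOf_pt mem_basicOpen_iff)
open scoped Pointwise TensorProduct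
open RingTheory.Sequence

universe u

variable {X : Scheme.{u}} (F : X.Modules)

/-- The sections of a flat quasi-coherent module on an affine open form a flat module. -/
theorem flat_sections [F.IsQuasicoherent] (hF : FlatMod.IsFlat F) {W : X.Opens} (hW : IsAffineOpen W) :
    Module.Flat Γ(X, W) Γ(F, W) := by
  refine Module.flat_of_localized_maximal _ fun P hP => ?_
  let q : PrimeSpectrum Γ(X, W) := ⟨P, hP.isPrime⟩
  have hz := pt_mem hW q
  obtain ⟨pr, hpr⟩ : ∃ pr, pr = hW.primeIdealOf ⟨pt hW q, hz⟩ := ⟨_, rfl⟩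
  have e : pr = q := hpr.trans (primeIdealOf_pt hW q)
  letI : Algebra Γ(X, W) (X.presheaf.stalk (pt hW q)) :=
    TopCat.Presheaf.algebra_section_stalk X.presheaf (⟨pt hW q, hz⟩ : W)
  haveI : IsLocalization.AtPrime (X.presheaf.stalk (pt hW q)) pr.asIdeal :=
    hpr ▸ hW.isLocalization_stalk ⟨pt hW q, hz⟩
  letI := QCohLib.germModule F (pt hW q) hz
  haveI : IsLocalizedModule pr.asIdeal.primeCompl (QCohLib.germLinearMap F (pt hW q) hz) :=
    hpr ▸ QCohLib.isLocalizedModule_germ (M := F) hW _ hz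
  haveI : IsScalarTower Γ(X, W) (X.presheaf.stalk (pt hW q)) (F.presheaf.stalk (pt hW q)) :=
    IsScalarTower.of_algebraMap_smul fun _ _ => rfl
  haveI : Module.Flat Γ(X, W) (X.presheaf.stalk (pt hW q)) := IsLocalization.flat _ pr.asIdeal.primeCompl
  haveI : Module.Flat (X.presheaf.stalk (pt hW q)) (F.presheaf.stalk (pt hW q)) := hF _
  haveI : Module.Flat Γ(X, W) (F.presheaf.stalk (pt hW q)) :=
    Module.Flat.trans Γ(X, W) (X.presheaf.stalk (pt hW q)) (F.presheaf.stalk (pt hW q))
  have hflat : Module.Flat Γ(X, W) (LocalizedModule pr.asIdeal.primeCompl Γ(F, W)) :=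
    Module.Flat.of_linearEquiv (IsLocalizedModule.iso pr.asIdeal.primeCompl (QCohLib.germLinearMap F (pt hW q) hz))
  subst e
  exact hflat

/-- A regular sequence stays regular on a flat module. -/
theorem regular_pair_of_flat {A : Type u} [CommRing A] {M : Type u} [AddCommGroup M] [Module A M]
    [Module.Flat A M] {x y : A} (hx : IsSMulRegular A x) (hy : IsSMulRegular (QuotSMulTop x A) y) :
    IsSMulRegular M x ∧ IsSMulRegular (QuotSMulTop x M) y := by
  have h : IsWeaklyRegular A [x, y] := by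
    rw [isWeaklyRegular_cons_iff, isWeaklyRegular_singleton_iff]; exact ⟨hx, hy⟩
  have h2 := ((TensorProduct.rid A M).isWeaklyRegular_congr [x, y]).mp (h.isWeaklyRegular_lTensor (M₂ := M))
  rw [isWeaklyRegular_cons_iff, isWeaklyRegular_singleton_iff] at h2
  exact h2

/-- Sections of a flat quasi-coherent module extend uniquely across depth two. -/
theorem bijective_restrict_of_flat [IsLocallyNoetherian X] [F.IsQuasicoherent] (hF : FlatMod.IsFlat F) (U : X.Opens)
    (hU : ∀ x : X, x ∉ U → (2 : ℕ∞) ≤ LocCoh.depth (X.presheaf.stalk x) (X.presheaf.stalk x)) (V : X.Opens) :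
    Function.Bijective (F.presheaf.map (homOfLE (inf_le_left : V ⊓ U ≤ V)).op) := by
  refine bijective_restrict_of_affine F U (fun {W} hW => ?_) V
  haveI : IsNoetherianRing Γ(X, W) := IsLocallyNoetherian.component_noetherian (X := X) ⟨W, hW⟩
  haveI := flat_sections F hF hW
  let J : Ideal Γ(X, W) := Ideal.span {f | X.basicOpen f ≤ U}
  have hJle : ∀ f ∈ J, X.basicOpen f ≤ U := by
    intro f hf z hz
    by_contra hzU
    have hzW : z ∈ W := X.basicOpen_le f hz
    refine (mem_basicOpen_iff hW hzW f).mp hz (Ideal.span_le.mpr (fun k hk => ?_) hf)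
    by_contra hkz
    exact hzU (hk ((mem_basicOpen_iff hW hzW k).mpr hkz))
  have hdep : (2 : ℕ∞) ≤ LocCoh.idealDepth J Γ(X, W) := by
    rw [← Nat.cast_two, DepthLib.natCast_le_idealDepth_iff_forall_localization]
    intro p hp hle
    let q : PrimeSpectrum Γ(X, W) := ⟨p, hp⟩
    have hzW := pt_mem hW q
    have hpq : (hW.primeIdealOf ⟨pt hW q, hzW⟩) = q := primeIdealOf_pt hW q
    have hzU : pt hW q ∉ U := fun hzU => by
      obtain ⟨f, hfle, hzf⟩ := hW.exists_basicOpen_le (V := U) ⟨_, hzU⟩ hzW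
      rw [mem_basicOpen_iff hW hzW, hpq] at hzf
      exact hzf (hle (Ideal.subset_span hfle))
    letI : Algebra Γ(X, W) (X.presheaf.stalk (pt hW q)) :=
      TopCat.Presheaf.algebra_section_stalk X.presheaf (⟨pt hW q, hzW⟩ : W)
    haveI : IsLocalization.AtPrime (X.presheaf.stalk (pt hW q)) (hW.primeIdealOf ⟨pt hW q, hzW⟩).asIdeal :=
      hW.isLocalization_stalk ⟨pt hW q, hzW⟩
    have h2 := hU _ hzU
    rw [Groth.Agent.FlatAscent.depth_eq_of_ringEquiv
      (IsLocalization.algEquiv (hW.primeIdealOf ⟨pt hW q, hzW⟩).asIdeal.primeCompl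
        (Localization.AtPrime (hW.primeIdealOf ⟨pt hW q, hzW⟩).asIdeal) (X.presheaf.stalk (pt hW q))).toRingEquiv] at h2
    obtain ⟨pr, hpr⟩ : ∃ pr, pr = hW.primeIdealOf ⟨pt hW q, hzW⟩ := ⟨_, rfl⟩
    rw [← hpr] at h2 hpq
    subst hpq
    rw [DepthLib.depth_localization_self]
    exact_mod_cast h2
  obtain ⟨x, hxJ, hx, y, hyJ, hy⟩ := DepthLib.two_le_idealDepth_iff.mp hdep
  obtain ⟨hx', hy'⟩ := regular_pair_of_flat (M := Γ(F, W)) hx hy
  exact bijective_restrict_affine_of_regular F U hW (hJle x hxJ) (hJle y hyJ) hx' hy'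

/-- A normal Noetherian scheme has depth two in codimension two. -/
theorem two_le_depth_of_normal [IsLocallyNoetherian X] (hX : Pi1.IsNormalScheme X) (x : X)
    (h : (1 : WithBot ℕ∞) < ringKrullDim (X.presheaf.stalk x)) :
    (2 : ℕ∞) ≤ LocCoh.depth (X.presheaf.stalk x) (X.presheaf.stalk x) := by
  haveI := (hX x).1
  haveI := (hX x).2
  exact DepthLib.two_le_depth_of_isIntegrallyClosed h

end Groth.Agent.DepthSections
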