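import Groth.Agent.PureClosed.Basic
import Groth.Agent.DepthLib.RegularLocal
import Groth.Agent.QCohLib.Coherent
import Groth.Agent.QCohLib.StalkLoc
import Groth.Agent.InvExtend.CartierCriterion
import Mathlib

/-! Sections of a coherent module extend uniquely across a closed set of depth at least two. -/

set_option linter.style.haveILetI false

namespace Groth.Agent.DepthSections

open AlgebraicGeometry CategoryTheory TopologicalSpace Opposite
open Groth.Agent.InvExtend (pt pt_mem primeIdealOf_pt mem_basicOpen_iff)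
open Groth.Agent.QCohLib (resModule resLinearMap isLocalizedModule_res germModule germLinearMap
  isLocalizedModule_germ)

universe u

variable {X : Scheme.{u}} (F : X.Modules)

theorem map_map {U V W : X.Opens} (h₁ : V ≤ U) (h₂ : W ≤ V) (s : Γ(F, U)) :
    F.presheaf.map (homOfLE h₂).op (F.presheaf.map (homOfLE h₁).op s) =
      F.presheaf.map (homOfLE (h₂.trans h₁)).op s := by
  rw [← ConcreteCategory.comp_apply, ← Functor.map_comp]; rfl

/-- The depth of the stalk is the depth of the localised module of sections. -/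
theorem depth_localization_eq [F.IsQuasicoherent] {W : X.Opens} (hW : IsAffineOpen W) (z : X) (hz : z ∈ W) :
    LocCoh.depth (Localization.AtPrime (hW.primeIdealOf ⟨z, hz⟩).asIdeal)
        (LocalizedModule (hW.primeIdealOf ⟨z, hz⟩).asIdeal.primeCompl Γ(F, W)) =
      LocCoh.depth (X.presheaf.stalk z) (F.presheaf.stalk z) := by
  let p := (hW.primeIdealOf ⟨z, hz⟩).asIdeal
  letI : Algebra Γ(X, W) (X.presheaf.stalk z) := TopCat.Presheaf.algebra_section_stalk X.presheaf (⟨z, hz⟩ : W)
  haveI : IsLocalization.AtPrime (X.presheaf.stalk z) p := hW.isLocalization_stalk ⟨z, hz⟩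
  letI := germModule F z hz
  haveI := isLocalizedModule_germ (M := F) hW z hz
  let e := IsLocalization.algEquiv p.primeCompl (Localization.AtPrime p) (X.presheaf.stalk z)
  letI : Algebra (Localization.AtPrime p) (X.presheaf.stalk z) := e.toRingEquiv.toRingHom.toAlgebra
  letI : Module (Localization.AtPrime p) (F.presheaf.stalk z) := Module.compHom _ e.toRingEquiv.toRingHom
  haveI : IsScalarTower (Localization.AtPrime p) (X.presheaf.stalk z) (F.presheaf.stalk z) :=
    IsScalarTower.of_algebraMap_smul fun _ _ => rfl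
  haveI : IsScalarTower Γ(X, W) (Localization.AtPrime p) (F.presheaf.stalk z) :=
    IsScalarTower.of_algebraMap_smul fun a m => by
      change e (algebraMap Γ(X, W) (Localization.AtPrime p) a) • m = X.presheaf.germ W z hz a • m
      rw [AlgEquiv.commutes]
      rfl
  rw [Groth.Agent.DepthLib.depth_eq_of_surjective (R := Localization.AtPrime p) (S := X.presheaf.stalk z)
    (M := F.presheaf.stalk z) e.surjective]
  exact Groth.Agent.DepthLib.depth_congr
    ((IsLocalizedModule.iso p.primeCompl (germLinearMap F z hz)).extendScalarsOfIsLocalization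
      p.primeCompl (Localization.AtPrime p))

/-- Extension across `U` on an affine open from a regular pair supported off `U`. -/
theorem bijective_restrict_affine_of_regular [F.IsQuasicoherent] (U : X.Opens) {W : X.Opens}
    (hW : IsAffineOpen W) {x y : Γ(X, W)} (hxU : X.basicOpen x ≤ U) (hyU : X.basicOpen y ≤ U)
    (hx : IsSMulRegular Γ(F, W) x) (hy : IsSMulRegular (QuotSMulTop x Γ(F, W)) y) :
    Function.Bijective (F.presheaf.map (homOfLE (inf_le_left : W ⊓ U ≤ W)).op) := by
  classical
  have hxU' : X.basicOpen x ≤ W ⊓ U := le_inf (X.basicOpen_le x) hxU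
  have hyU' : X.basicOpen y ≤ W ⊓ U := le_inf (X.basicOpen_le y) hyU
  -- localisation on basic opens
  have hzero : ∀ (g : Γ(X, W)) (m : Γ(F, W)), F.presheaf.map (homOfLE (X.basicOpen_le g)).op m = 0 →
      ∃ n : ℕ, g ^ n • m = 0 := by
    intro g m hm
    letI := resModule F (X.basicOpen_le g)
    haveI := isLocalizedModule_res F hW g
    obtain ⟨⟨_, n, rfl⟩, hn⟩ := (IsLocalizedModule.eq_zero_iff (Submonoid.powers g)
      (resLinearMap F (X.basicOpen_le g))).mp hm
    exact ⟨n, hn⟩
  have hfrac : ∀ (g : Γ(X, W)) (t : Γ(F, X.basicOpen g)), ∃ (n : ℕ) (m : Γ(F, W)),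
      X.presheaf.map (homOfLE (X.basicOpen_le g)).op (g ^ n) • t =
        F.presheaf.map (homOfLE (X.basicOpen_le g)).op m := by
    intro g t
    letI := resModule F (X.basicOpen_le g)
    haveI := isLocalizedModule_res F hW g
    obtain ⟨⟨m, ⟨_, n, rfl⟩⟩, hm⟩ := IsLocalizedModule.surj (Submonoid.powers g)
      (resLinearMap F (X.basicOpen_le g)) t
    exact ⟨n, m, hm⟩
  have hunit : ∀ (g : Γ(X, W)) (V : X.Opens) (hV : V ≤ X.basicOpen g) (n : ℕ),
      IsUnit (X.presheaf.map (homOfLE (hV.trans (X.basicOpen_le g))).op (g ^ n)) := by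
    intro g V hV n
    have h1 := (X.toRingedSpace.isUnit_res_basicOpen g).map (X.presheaf.map (homOfLE hV).op).hom
    rw [map_pow]
    refine IsUnit.pow n ?_
    rw [show (homOfLE (hV.trans (X.basicOpen_le g))).op =
      (homOfLE (X.basicOpen_le g)).op ≫ (homOfLE hV).op from rfl, Functor.map_comp]
    exact h1
  refine ⟨?_, fun t => ?_⟩
  · rw [injective_iff_map_eq_zero]
    intro m hm
    obtain ⟨n, hn⟩ := hzero x m (by
      rw [← map_map F inf_le_left hxU' m, hm, map_zero])
    exact (hx.pow n) (hn.trans (smul_zero _).symm)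
  obtain ⟨a, m, hm⟩ := hfrac x (F.presheaf.map (homOfLE hxU').op t)
  obtain ⟨b, n, hn⟩ := hfrac y (F.presheaf.map (homOfLE hyU').op t)
  have hxy : ∃ k : ℕ, (x * y) ^ k • (y ^ b • m - x ^ a • n) = 0 := by
    refine hzero (x * y) _ ?_
    have hlx : X.basicOpen (x * y) ≤ X.basicOpen x := (X.basicOpen_mul x y).trans_le inf_le_left
    have hly : X.basicOpen (x * y) ≤ X.basicOpen y := (X.basicOpen_mul x y).trans_le inf_le_right
    have h1 := congrArg (F.presheaf.map (homOfLE hlx).op) hm
    have h2 := congrArg (F.presheaf.map (homOfLE hly).op) hn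
    erw [Scheme.Modules.map_smul, map_map F _ hlx, map_map F _ hlx] at h1
    erw [Scheme.Modules.map_smul, map_map F _ hly, map_map F _ hly] at h2
    rw [map_sub, Scheme.Modules.map_smul, Scheme.Modules.map_smul, ← h1, ← h2, sub_eq_zero]
    rw [← ConcreteCategory.comp_apply, ← Functor.map_comp, ← ConcreteCategory.comp_apply,
      ← Functor.map_comp]
    exact smul_comm _ _ _
  obtain ⟨k, hk⟩ := hxy
  rw [mul_pow, mul_smul] at hk
  have hk' := hx.pow k (hk.trans (smul_zero _).symm)
  rw [smul_sub, sub_eq_zero, ← mul_smul, ← pow_add, smul_comm] at hk'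
  obtain ⟨m', rfl⟩ := PureClosed.smul_mem_pow_smul_top' hx hy a _ m _ hk'
  refine ⟨m', ?_⟩
  -- agreement on `D(x)`
  have hDx : F.presheaf.map (homOfLE (X.basicOpen_le x)).op m' = F.presheaf.map (homOfLE hxU').op t := by
    rw [Scheme.Modules.map_smul] at hm
    exact ((hunit x _ le_rfl a).smul_left_cancel.mp hm).symm
  obtain ⟨d, hd⟩ : ∃ d, d = F.presheaf.map (homOfLE (inf_le_left : W ⊓ U ≤ W)).op m' - t := ⟨_, rfl⟩
  suffices d = 0 by rwa [this, eq_comm, sub_eq_zero] at hd
  refine Groth.Agent.QCohLib.section_ext _ _ fun z hz => ?_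
  rw [map_zero]
  obtain ⟨g, hgle, hzg⟩ := hW.exists_basicOpen_le (V := U) ⟨z, hz.2⟩ hz.1
  have hgle' : X.basicOpen g ≤ W ⊓ U := le_inf (X.basicOpen_le g) hgle
  rw [← TopCat.Presheaf.germ_res_apply F.presheaf (homOfLE hgle') z hzg d]
  suffices hdg : F.presheaf.map (homOfLE hgle').op d = 0 by rw [hdg, map_zero]
  obtain ⟨j, w, hw⟩ := hfrac g (F.presheaf.map (homOfLE hgle').op d)
  have hdx : F.presheaf.map (homOfLE hxU').op d = 0 := by
    rw [hd, map_sub, map_map F inf_le_left hxU' m', sub_eq_zero]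
    exact hDx
  have hlg : X.basicOpen (g * x) ≤ X.basicOpen g := (X.basicOpen_mul g x).trans_le inf_le_left
  have hlx : X.basicOpen (g * x) ≤ X.basicOpen x := (X.basicOpen_mul g x).trans_le inf_le_right
  obtain ⟨l, hl⟩ := hzero (g * x) w (by
    have h1 := congrArg (F.presheaf.map (homOfLE hlg).op) hw
    erw [Scheme.Modules.map_smul, map_map F _ hlg, map_map F _ hlg] at h1
    rw [← h1, ← map_map F hxU' hlx d, hdx, map_zero, smul_zero])
  rw [mul_pow, mul_comm, mul_smul] at hl
  have hl' := hx.pow l (hl.trans (smul_zero _).symm)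
  have h3 := congrArg (F.presheaf.map (homOfLE (X.basicOpen_le g)).op) hl'
  rw [map_zero, Scheme.Modules.map_smul, ← hw] at h3
  exact ((hunit g _ le_rfl j).smul_eq_zero).mp (((hunit g _ le_rfl l).smul_eq_zero).mp h3)


/-- Restriction to an open whose complement has depth at least two is bijective on an affine open. -/
theorem bijective_restrict_affine [IsLocallyNoetherian X] (hF : Coh.IsCoh F) (U : X.Opens)
    {W : X.Opens} (hW : IsAffineOpen W)
    (hdepth : ∀ x ∈ W, x ∉ U → 2 ≤ LocCoh.depth (X.presheaf.stalk x) (F.presheaf.stalk x)) :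
    Function.Bijective (F.presheaf.map (homOfLE (inf_le_left : W ⊓ U ≤ W)).op) := by
  classical
  haveI := hF.1
  haveI : IsNoetherianRing Γ(X, W) := IsLocallyNoetherian.component_noetherian (X := X) ⟨W, hW⟩
  haveI : Module.Finite Γ(X, W) Γ(F, W) := (Groth.Agent.QCohLib.isCoh_iff.mp hF).2 ⟨W, hW⟩
  let J : Ideal Γ(X, W) := Ideal.span {f | X.basicOpen f ≤ U}
  have hJle : ∀ f ∈ J, X.basicOpen f ≤ W ⊓ U := by
    intro f hf
    refine le_inf (X.basicOpen_le f) fun z hz => ?_
    by_contra hzU
    have hzW : z ∈ W := X.basicOpen_le f hz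
    refine (mem_basicOpen_iff hW hzW f).mp hz (Ideal.span_le.mpr (fun k hk => ?_) hf)
    by_contra hkz
    exact hzU (hk ((mem_basicOpen_iff hW hzW k).mpr hkz))
  have hdep : (2 : ℕ∞) ≤ LocCoh.idealDepth J Γ(F, W) := by
    rw [← Nat.cast_two, DepthLib.natCast_le_idealDepth_iff_forall_localization]
    intro p hp hle
    let q : PrimeSpectrum Γ(X, W) := ⟨p, hp⟩
    have hzW := pt_mem hW q
    have hpq : (hW.primeIdealOf ⟨pt hW q, hzW⟩) = q := primeIdealOf_pt hW q
    have hzU : pt hW q ∉ U := fun hzU => by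
      obtain ⟨f, hfle, hzf⟩ := hW.exists_basicOpen_le (V := U) ⟨_, hzU⟩ hzW
      rw [mem_basicOpen_iff hW hzW, hpq] at hzf
      exact hzf (hle (Ideal.subset_span hfle))
    have h2 := hdepth _ hzW hzU
    rw [← depth_localization_eq F hW _ hzW] at h2
    obtain ⟨pr, hpr⟩ : ∃ pr, pr = hW.primeIdealOf ⟨pt hW q, hzW⟩ := ⟨_, rfl⟩
    rw [← hpr] at h2 hpq
    subst hpq
    exact_mod_cast h2
  obtain ⟨x, hxJ, hx, y, hyJ, hy⟩ := DepthLib.two_le_idealDepth_iff.mp hdep
  exact bijective_restrict_affine_of_regular F U hW ((hJle x hxJ).trans inf_le_right)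
    ((hJle y hyJ).trans inf_le_right) hx hy

/-- Bijectivity on affine opens implies bijectivity on all opens. -/
theorem bijective_restrict_of_affine (U : X.Opens)
    (haff : ∀ {W : X.Opens}, IsAffineOpen W →
      Function.Bijective (F.presheaf.map (homOfLE (inf_le_left : W ⊓ U ≤ W)).op)) (V : X.Opens) :
    Function.Bijective (F.presheaf.map (homOfLE (inf_le_left : V ⊓ U ≤ V)).op) := by
  classical
  choose W hW hzW hWV using fun z : V => exists_isAffineOpen_mem_and_subset (X := X) (x := z.1) (U := V) z.2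
  have hinj : ∀ (V : X.Opens),
      Function.Injective (F.presheaf.map (homOfLE (inf_le_left : V ⊓ U ≤ V)).op) := by
    intro V
    rw [injective_iff_map_eq_zero]
    intro s hs
    refine Groth.Agent.QCohLib.section_ext _ _ fun z hz => ?_
    rw [map_zero]
    obtain ⟨A, hA, hzA, hAV⟩ := exists_isAffineOpen_mem_and_subset (X := X) (x := z) (U := V) hz
    rw [← TopCat.Presheaf.germ_res_apply F.presheaf (homOfLE (show A ≤ V from hAV)) z hzA s]
    suffices F.presheaf.map (homOfLE (show A ≤ V from hAV)).op s = 0 by rw [this, map_zero]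
    apply (haff hA).1
    rw [map_zero, map_map F hAV inf_le_left, ← map_map F (inf_le_left : V ⊓ U ≤ V) (inf_le_inf_right U hAV), hs,
      map_zero]
  refine ⟨hinj V, fun t => ?_⟩
  choose s hs using fun z : V => (haff (hW z)).2
    (F.presheaf.map (homOfLE (inf_le_inf_right U (hWV z))).op t)
  let Fs : TopCat.Sheaf Ab X.carrier := ⟨F.presheaf, Scheme.Modules.isSheaf F⟩
  have hcomp : TopCat.Presheaf.IsCompatible Fs.obj W s := by
    intro z z'
    refine hinj (W z ⊓ W z') ?_
    have h1 := congrArg (F.presheaf.map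
      (homOfLE (inf_le_inf_right U (inf_le_left : W z ⊓ W z' ≤ W z))).op) (hs z)
    have h2 := congrArg (F.presheaf.map
      (homOfLE (inf_le_inf_right U (inf_le_right : W z ⊓ W z' ≤ W z'))).op) (hs z')
    rw [map_map F _ (inf_le_inf_right U (inf_le_left : W z ⊓ W z' ≤ W z)), map_map F _ _] at h1
    rw [map_map F _ (inf_le_inf_right U (inf_le_right : W z ⊓ W z' ≤ W z')), map_map F _ _] at h2
    exact (map_map F inf_le_left inf_le_left (s z)).trans
      ((h1.trans h2.symm).trans (map_map F inf_le_right inf_le_left (s z')).symm)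
  obtain ⟨S, hS, -⟩ := Fs.existsUnique_gluing' W V (fun z => homOfLE (hWV z))
    (fun z hz => Opens.mem_iSup.mpr ⟨⟨z, hz⟩, hzW ⟨z, hz⟩⟩) s hcomp
  refine ⟨S, Groth.Agent.QCohLib.section_ext _ _ fun z hz => ?_⟩
  let z' : V := ⟨z, hz.1⟩
  have hle : W z' ⊓ U ≤ V ⊓ U := inf_le_inf_right U (hWV z')
  rw [← TopCat.Presheaf.germ_res_apply F.presheaf (homOfLE hle) z ⟨hzW z', hz.2⟩ _,
    ← TopCat.Presheaf.germ_res_apply F.presheaf (homOfLE hle) z ⟨hzW z', hz.2⟩ t]
  congr 1
  rw [← hs z', map_map F inf_le_left hle S, ← map_map F (hWV z') inf_le_left S]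
  exact congrArg _ (hS z')

/-- Restriction to an open whose complement has depth at least two is bijective. -/
theorem bijective_restrict [IsLocallyNoetherian X] (hF : Coh.IsCoh F) (U : X.Opens)
    (hdepth : ∀ x : X, x ∉ U → 2 ≤ LocCoh.depth (X.presheaf.stalk x) (F.presheaf.stalk x)) (V : X.Opens) :
    Function.Bijective (F.presheaf.map (homOfLE (inf_le_left : V ⊓ U ≤ V)).op) :=
  bijective_restrict_of_affine F U (fun hA => bijective_restrict_affine F hF U hA fun z _ => hdepth z) V

end Groth.Agent.DepthSections
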