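import Groth.Agent.DepthSections.Apps
import Groth.Agent.AssPoints.Basic
import Groth.Agent.QCohLib.StalkRestrict
import Groth.Agent.QCohLib.Closure
import Groth.Agent.CohFinite.DevissageGen
import Mathlib

/-! A morphism of modules is an isomorphism if it is so off a depth two set. -/

set_option linter.style.haveILetI false

namespace Groth.Agent.DepthSections

open AlgebraicGeometry CategoryTheory Limits Opposite
open scoped Pointwise

universe u v

section Alg

variable {A : Type u} [CommRing A] [IsLocalRing A] [IsNoetherianRing A]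

/-- A nonzero element whose annihilator has radical the maximal ideal has a nonzero multiple killed by it. -/
theorem exists_killed_of_radical_eq {M : Type v} [AddCommGroup M] [Module A M] {m : M}
    (hm : Ideal.radical (LinearMap.ker (LinearMap.toSpanSingleton A M m)) = IsLocalRing.maximalIdeal A) :
    ∃ q : M, q ≠ 0 ∧ ∀ r ∈ IsLocalRing.maximalIdeal A, r • q = 0 := by
  obtain ⟨n, hn⟩ := Ideal.exists_pow_le_of_le_radical_of_fg hm.ge (IsNoetherian.noetherian _)
  have hm0 : m ≠ 0 := by
    rintro rfl
    apply (IsLocalRing.maximalIdeal.isMaximal A).ne_top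
    rw [← hm, LinearMap.toSpanSingleton_zero, LinearMap.ker_zero, Ideal.radical_top]
  clear hm
  induction n generalizing m with
  | zero =>
    refine absurd ?_ hm0
    have := hn (show (1 : A) ∈ IsLocalRing.maximalIdeal A ^ 0 by simp)
    simpa using this
  | succ n ih =>
    by_cases h : ∀ r ∈ IsLocalRing.maximalIdeal A, r • m = 0
    · exact ⟨m, hm0, h⟩
    push Not at h
    obtain ⟨r, hr, hrm⟩ := h
    refine ih (m := r • m) (fun a ha => ?_) hrm
    have := hn (show a * r ∈ IsLocalRing.maximalIdeal A ^ (n + 1) by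
      rw [pow_succ]; exact Ideal.mul_mem_mul ha hr)
    simpa [mul_smul] using this

variable {M : Type u} [AddCommGroup M] [Module A M] [Module.Finite A M]
  {N : Type u} [AddCommGroup N] [Module A N]

/-- Depth two: an element moved into an injective image by the maximal ideal is in the image,
when the ambient module has no elements killed by the maximal ideal. -/
theorem mem_range_of_two_le_depth (h2 : (2 : ℕ∞) ≤ LocCoh.depth A M) (f : M →ₗ[A] N)
    (hf : Function.Injective f)
    (hN : ∀ g : N, (∀ r ∈ IsLocalRing.maximalIdeal A, r • g = 0) → g = 0) (g : N)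
    (hg : ∀ r ∈ IsLocalRing.maximalIdeal A, r • g ∈ LinearMap.range f) : g ∈ LinearMap.range f := by
  obtain ⟨x, hx, hxr, y, hy, hyr⟩ := Groth.Agent.DepthLib.two_le_idealDepth_iff.mp h2
  obtain ⟨f1, h1⟩ := hg x hx
  obtain ⟨f2, h2'⟩ := hg y hy
  have h12 : y • f1 = x • f2 := hf (by rw [map_smul, map_smul, h1, h2', smul_comm])
  have hmem : Submodule.Quotient.mk f1 = (0 : QuotSMulTop x M) := by
    refine hyr (show y • (Submodule.Quotient.mk f1 : QuotSMulTop x M) = y • (0 : QuotSMulTop x M) from ?_)
    rw [smul_zero, ← Submodule.Quotient.mk_smul, h12, Submodule.Quotient.mk_eq_zero]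
    exact Submodule.smul_mem_pointwise_smul _ _ _ Submodule.mem_top
  rw [Submodule.Quotient.mk_eq_zero, Submodule.mem_smul_pointwise_iff_exists] at hmem
  obtain ⟨f', -, rfl⟩ := hmem
  refine ⟨f', (sub_eq_zero.mp (hN _ fun r hr => ?_)).symm⟩
  obtain ⟨f3, h3⟩ := hg r hr
  rw [smul_sub, ← h3, ← map_smul, ← map_sub]
  have : x • (f3 - r • f') = x • 0 := hf (by
    rw [map_smul, map_sub, map_smul, h3, smul_sub, smul_comm x r (f f'), ← map_smul f x f', h1,
      smul_comm, sub_self, smul_zero, map_zero])
  rw [hxr this, map_zero]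

omit [IsNoetherianRing A] in
theorem eq_zero_of_two_le_depth [IsNoetherianRing A] (h2 : (2 : ℕ∞) ≤ LocCoh.depth A M) (m : M)
    (hm : ∀ r ∈ IsLocalRing.maximalIdeal A, r • m = 0) : m = 0 := by
  obtain ⟨x, hx, hxr, -⟩ := Groth.Agent.DepthLib.two_le_idealDepth_iff.mp h2
  exact hxr ((hm x hx).trans (smul_zero _).symm)

end Alg

variable {X : Scheme.{u}}

theorem isWeakAssPoint_of_killed {F : X.Modules} {x : X} {g : F.presheaf.stalk x} (hg0 : g ≠ 0)
    (hg : ∀ r ∈ IsLocalRing.maximalIdeal (X.presheaf.stalk x), r • g = 0) :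
    Curv2.IsWeakAssPoint F x := by
  refine ⟨g, ?_⟩
  have : LinearMap.ker (LinearMap.toSpanSingleton (X.presheaf.stalk x) (F.presheaf.stalk x) g) =
      IsLocalRing.maximalIdeal (X.presheaf.stalk x) := by
    refine ((IsLocalRing.maximalIdeal.isMaximal _).eq_of_le (fun h => hg0 ?_) fun r hr => ?_).symm
    · have h1 : (1 : X.presheaf.stalk x) ∈ LinearMap.ker
          (LinearMap.toSpanSingleton (X.presheaf.stalk x) (F.presheaf.stalk x) g) := h ▸ Submodule.mem_top
      simpa using h1
    · simpa using hg r hr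
  rw [this, (IsLocalRing.maximalIdeal.isMaximal _).isPrime.radical]

/-- A map from a coherent to a quasi-coherent module is an isomorphism if at every point it is a stalk
isomorphism or the source has depth two and the point is not associated to the target. -/
theorem isIso_of_bijective_or_depth [IsLocallyNoetherian X] {F G : X.Modules} (φ : F ⟶ G)
    (hF : Coh.IsCoh F) (hG : G.IsQuasicoherent)
    (h : ∀ x : X, Function.Bijective (QCohLib.stalkHom φ x) ∨
      ((2 : ℕ∞) ≤ LocCoh.depth (X.presheaf.stalk x) (F.presheaf.stalk x) ∧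
        ¬ Curv2.IsWeakAssPoint G x)) :
    IsIso φ := by
  haveI := hF.1
  have hmono : Mono φ := by
    refine AssPoints.mono_of_stalk_injective hF.1 φ fun x hx => ?_
    rcases h x with hb | ⟨hd, -⟩
    · exact hb.1
    · haveI := CohFinite.finite_stalk hF x
      obtain ⟨m, hm⟩ := hx
      obtain ⟨q, hq0, hq⟩ := exists_killed_of_radical_eq hm
      exact absurd (eq_zero_of_two_le_depth hd q hq) hq0
  rw [QCohLib.isIso_iff_stalk_bijective]
  haveI : (cokernel φ).IsQuasicoherent := QCohLib.isQuasicoherent_cokernel φ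
  have hzero : IsZero (cokernel φ) := by
    refine (AssPoints.isZero_iff ‹(cokernel φ).IsQuasicoherent›).mpr fun x hx => ?_
    obtain ⟨m, hm⟩ := hx
    obtain ⟨q, hq0, hq⟩ := exists_killed_of_radical_eq hm
    obtain ⟨g, rfl⟩ := (QCohLib.epi_iff_stalk_surjective (cokernel.π φ)).mp inferInstance x q
    refine hq0 ((QCohLib.stalk_cokernel_exact φ x g).mpr ?_)
    rcases h x with hb | ⟨hd, hnass⟩
    · exact hb.2 g
    · haveI := CohFinite.finite_stalk hF x
      refine mem_range_of_two_le_depth hd (QCohLib.stalkLinearMap φ x)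
        ((QCohLib.mono_iff_stalk_injective φ).mp hmono x) (fun (g' : G.presheaf.stalk x) hg' => ?_) g (fun r hr => ?_)
      · by_contra hne
        exact hnass (isWeakAssPoint_of_killed hne hg')
      · refine (QCohLib.stalk_cokernel_exact φ x _).mp ?_
        exact ((QCohLib.stalkLinearMap (cokernel.π φ) x).map_smul r g).trans (hq r hr)
  intro x
  refine ⟨(QCohLib.mono_iff_stalk_injective φ).mp hmono x, fun n => (QCohLib.stalk_cokernel_exact φ x n).mp ?_⟩
  haveI := QCohLib.subsingleton_stalk_of_isZero hzero x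
  exact Subsingleton.elim _ _

end Groth.Agent.DepthSections

namespace Groth.Agent.DepthSections

open AlgebraicGeometry CategoryTheory

universe u

/-- On an integral scheme, a point whose local ring has zero maximal ideal is the generic point. -/
theorem eq_genericPoint_of_maximalIdeal_eq_bot {X : Scheme.{u}} [IsIntegral X] {x : X}
    (h : IsLocalRing.maximalIdeal (X.presheaf.stalk x) = ⊥) : x = genericPoint X := by
  obtain ⟨W, hW, hxW, -⟩ := exists_isAffineOpen_mem_and_subset (X := X) (x := x) (U := ⊤) trivial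
  haveI : Nonempty W := ⟨⟨x, hxW⟩⟩
  let p := (hW.primeIdealOf ⟨x, hxW⟩).asIdeal
  letI : Algebra Γ(X, W) (X.presheaf.stalk x) := TopCat.Presheaf.algebra_section_stalk X.presheaf (⟨x, hxW⟩ : W)
  haveI : IsLocalization.AtPrime (X.presheaf.stalk x) p := hW.isLocalization_stalk ⟨x, hxW⟩
  have hp : hW.primeIdealOf ⟨x, hxW⟩ =
      hW.primeIdealOf ⟨genericPoint X, ((genericPoint_spec X).mem_open_set_iff W.isOpen).mpr ⟨x, trivial, hxW⟩⟩ := by
    rw [hW.primeIdealOf_genericPoint]
    have hgb : (genericPoint (Spec Γ(X, W))) = (⊥ : PrimeSpectrum Γ(X, W)) := genericPoint_eq_bot_of_affine _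
    rw [hgb]
    refine PrimeSpectrum.ext ?_
    refine (eq_bot_iff.mpr fun f hf => ?_ : p = ⊥)
    have h1 : algebraMap Γ(X, W) (X.presheaf.stalk x) f ∈ IsLocalRing.maximalIdeal (X.presheaf.stalk x) :=
      (IsLocalization.AtPrime.to_map_mem_maximal_iff (X.presheaf.stalk x) p f).mpr hf
    rw [h, Ideal.mem_bot, IsLocalization.map_eq_zero_iff p.primeCompl] at h1
    obtain ⟨c, hc⟩ := h1
    rcases mul_eq_zero.mp hc with h0 | h0
    · exact absurd (h0 ▸ p.zero_mem) c.2
    · exact h0
  have h2 := congrArg hW.fromSpec hp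
  simpa [IsAffineOpen.fromSpec_primeIdealOf] using h2

end Groth.Agent.DepthSections
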