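import Groth.Agent.DepthSections.Apps
import Groth.Agent.DepthSections.IsoCrit
import Mathlib

/-! If sections extend uniquely across a closed set, the module has depth two there. -/

set_option linter.style.haveILetI false
set_option backward.isDefEq.respectTransparency false

namespace Groth.Agent.DepthSections

open AlgebraicGeometry CategoryTheory TopologicalSpace Opposite
open Groth.Agent.QCohLib (germ_smul)
open scoped Pointwise

universe u

variable {X : Scheme.{u}} (F : X.Modules)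

theorem germ_res_X {U V : X.Opens} (h : V ≤ U) (z : X) (hz : z ∈ V) (a : Γ(X, U)) :
    X.presheaf.germ V z hz (X.presheaf.map (homOfLE h).op a) = X.presheaf.germ U z (h hz) a :=
  TopCat.Presheaf.germ_res_apply X.presheaf (homOfLE h) z hz a

theorem germ_res_F {U V : X.Opens} (h : V ≤ U) (z : X) (hz : z ∈ V) (a : Γ(F, U)) :
    F.presheaf.germ V z hz (F.presheaf.map (homOfLE h).op a) = F.presheaf.germ U z (h hz) a :=
  TopCat.Presheaf.germ_res_apply F.presheaf (homOfLE h) z hz a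

theorem exists_nhd_of_germ_eq {ι : Type*} (S : Finset ι) {x : X} {V : X.Opens} (hxV : x ∈ V)
    (s t : ι → Γ(F, V)) (h : ∀ i ∈ S, F.presheaf.germ V x hxV (s i) = F.presheaf.germ V x hxV (t i)) :
    ∃ (O : X.Opens) (hO : O ≤ V), x ∈ O ∧
      ∀ i ∈ S, F.presheaf.map (homOfLE hO).op (s i) = F.presheaf.map (homOfLE hO).op (t i) := by
  classical
  induction S using Finset.induction_on with
  | empty => exact ⟨V, le_rfl, hxV, by simp⟩
  | insert a S _ ih =>
    obtain ⟨O, hO, hxO, he⟩ := ih fun i hi => h i (Finset.mem_insert_of_mem hi)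
    obtain ⟨P, hxP, i₁, i₂, hP⟩ :=
      TopCat.Presheaf.germ_eq F.presheaf x hxV hxV (s a) (t a) (h a (Finset.mem_insert_self a S))
    refine ⟨O ⊓ P, inf_le_left.trans hO, ⟨hxO, hxP⟩, fun i hi => ?_⟩
    rcases Finset.mem_insert.mp hi with rfl | hi
    · rw [← map_map F i₁.le (inf_le_right : O ⊓ P ≤ P) (s i), ← map_map F i₁.le (inf_le_right : O ⊓ P ≤ P) (t i)]
      exact congrArg _ hP
    · rw [← map_map F hO (inf_le_left : O ⊓ P ≤ O) (s i), ← map_map F hO (inf_le_left : O ⊓ P ≤ O) (t i), he i hi]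

theorem exists_common_sections {ι : Type*} (S : Finset ι) {x : X} (V : X.Opens) (hxV : x ∈ V)
    (y : ι → F.presheaf.stalk x) :
    ∃ (O : X.Opens) (_ : O ≤ V) (hxO : x ∈ O) (h : ι → Γ(F, O)),
      ∀ i ∈ S, F.presheaf.germ O x hxO (h i) = y i := by
  classical
  induction S using Finset.induction_on with
  | empty => exact ⟨V, le_rfl, hxV, fun _ => 0, by simp⟩
  | insert a S _ ih =>
    obtain ⟨O, hO, hxO, h, he⟩ := ih
    obtain ⟨P, hxP, s, hs⟩ := F.presheaf.exists_germ_eq (y a)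
    refine ⟨O ⊓ P, inf_le_left.trans hO, ⟨hxO, hxP⟩, fun i => if i = a then
      F.presheaf.map (homOfLE (inf_le_right : O ⊓ P ≤ P)).op s else
      F.presheaf.map (homOfLE (inf_le_left : O ⊓ P ≤ O)).op (h i), fun i hi => ?_⟩
    dsimp only
    split_ifs with hia
    · rw [TopCat.Presheaf.germ_res_apply, hs, hia]
    · rw [TopCat.Presheaf.germ_res_apply, he i ((Finset.mem_insert.mp hi).resolve_left hia)]

/-- Near a point outside `U`, finitely many functions in the maximal ideal cover `U`. -/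
theorem exists_cover_gens [IsLocallyNoetherian X] {U : X.Opens} {x : X} (hxU : x ∉ U) :
    ∃ (W : X.Opens) (hxW : x ∈ W) (S : Finset Γ(X, W)),
      (∀ f ∈ S, X.presheaf.germ W x hxW f ∈ IsLocalRing.maximalIdeal (X.presheaf.stalk x)) ∧
        ∀ z : X, z ∈ W → z ∈ U → ∃ f ∈ S, z ∈ X.basicOpen f := by
  obtain ⟨W, hW, hxW, -⟩ := exists_isAffineOpen_mem_and_subset (X := X) (x := x) (U := ⊤) trivial
  haveI : IsNoetherianRing Γ(X, W) := IsLocallyNoetherian.component_noetherian (X := X) ⟨W, hW⟩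
  obtain ⟨S, hS⟩ := IsNoetherian.noetherian (hW.primeIdealOf ⟨x, hxW⟩).asIdeal
  refine ⟨W, hxW, S, fun f hf => ?_, fun z hzW hzU => ?_⟩
  · rw [IsLocalRing.mem_maximalIdeal, mem_nonunits_iff]
    intro hu
    exact (InvExtend.mem_basicOpen_iff hW hxW f).mp ((X.mem_basicOpen f x hxW).mpr hu)
      (hS ▸ Ideal.subset_span hf)
  · by_contra! hne
    refine hxU (Specializes.mem_open ?_ U.isOpen hzU)
    refine (InvExtend.specializes_iff hW hzW hxW).mpr ?_
    rw [← hS]
    refine Ideal.span_le.mpr fun f hf => ?_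
    by_contra hfz
    exact hne f hf ((InvExtend.mem_basicOpen_iff hW hzW f).mpr hfz)

theorem eq_zero_of_killed [IsLocallyNoetherian X] {U : X.Opens}
    (hinj : ∀ V : X.Opens, Function.Injective (F.presheaf.map (homOfLE (inf_le_left : V ⊓ U ≤ V)).op))
    {x : X} (hxU : x ∉ U) (q : F.presheaf.stalk x)
    (hq : ∀ r ∈ IsLocalRing.maximalIdeal (X.presheaf.stalk x), r • q = 0) : q = 0 := by
  obtain ⟨W, hxW, S, hSm, hScov⟩ := exists_cover_gens hxU
  obtain ⟨P, hxP, s, rfl⟩ := F.presheaf.exists_germ_eq q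
  let V := W ⊓ P
  let fV : Γ(X, W) → Γ(X, V) := fun f => X.presheaf.map (homOfLE (inf_le_left : V ≤ W)).op f
  let sV : Γ(F, V) := F.presheaf.map (homOfLE (inf_le_right : V ≤ P)).op s
  obtain ⟨O, hO, hxO, he⟩ := exists_nhd_of_germ_eq F S (⟨hxW, hxP⟩ : x ∈ V) (fun f => fV f • sV) (fun _ => 0)
    fun f hf => by
      rw [map_zero, germ_smul]
      exact (congrArg₂ (· • ·) (germ_res_X _ _ _ f) (germ_res_F F _ _ _ s)).trans (hq _ (hSm f hf))
  rw [← TopCat.Presheaf.germ_res_apply F.presheaf (homOfLE (inf_le_right : V ≤ P)) x ⟨hxW, hxP⟩ s,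
    ← TopCat.Presheaf.germ_res_apply F.presheaf (homOfLE hO) x hxO]
  suffices F.presheaf.map (homOfLE hO).op sV = 0 by rw [this, map_zero]
  refine hinj O ?_
  rw [map_zero]
  refine Groth.Agent.QCohLib.section_ext _ _ fun z hz => ?_
  rw [map_zero]
  obtain ⟨f, hf, hzf⟩ := hScov z (hO hz.1).1 hz.2
  have h1 := congrArg (F.presheaf.germ O z hz.1) (he f hf)
  simp only [map_zero] at h1
  rw [TopCat.Presheaf.germ_res_apply, germ_smul] at h1
  rw [show X.presheaf.germ V z (hO hz.1) (fV f) = X.presheaf.germ W z (hO hz.1).1 f from germ_res_X _ _ _ f] at h1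
  rw [germ_res_F, germ_res_F]
  exact ((X.mem_basicOpen f z (hO hz.1).1).mp hzf).smul_eq_zero.mp h1

theorem exists_smul_eq_of_killed [IsLocallyNoetherian X] {U : X.Opens}
    (hbij : ∀ V : X.Opens, Function.Bijective (F.presheaf.map (homOfLE (inf_le_left : V ⊓ U ≤ V)).op))
    {x : X} (hxU : x ∉ U) (x₀ : X.presheaf.stalk x)
    (hreg : IsSMulRegular (F.presheaf.stalk x) x₀) (g : F.presheaf.stalk x)
    (hg : ∀ r ∈ IsLocalRing.maximalIdeal (X.presheaf.stalk x), ∃ y, r • g = x₀ • y) :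
    ∃ y, g = x₀ • y := by
  classical
  obtain ⟨W, hxW, S, hSm, hScov⟩ := exists_cover_gens hxU
  obtain ⟨A, hxA, a, rfl⟩ := X.presheaf.exists_germ_eq x₀
  obtain ⟨P, hxP, s, rfl⟩ := F.presheaf.exists_germ_eq g
  choose! y hy using fun f (hf : f ∈ S) => hg _ (hSm f hf)
  obtain ⟨O, hO, hxO, h, hh⟩ := exists_common_sections F S (W ⊓ A ⊓ P) ⟨⟨hxW, hxA⟩, hxP⟩ y
  let fO : Γ(X, W) → Γ(X, O) := fun f => X.presheaf.map (homOfLE (hO.trans (inf_le_left.trans inf_le_left))).op f
  let aO : Γ(X, O) := X.presheaf.map (homOfLE (hO.trans (inf_le_left.trans inf_le_right))).op a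
  let sO : Γ(F, O) := F.presheaf.map (homOfLE (hO.trans inf_le_right)).op s
  have hx0 : ∀ f ∈ S, F.presheaf.germ O x hxO (fO f • sO - aO • h f) = 0 := by
    intro f hf
    rw [map_sub, germ_smul, germ_smul, hh f hf]
    simp only [fO, aO, sO, germ_res_X, germ_res_F]
    exact sub_eq_zero.mpr (hy f hf)
  obtain ⟨O₁, hO₁, hxO₁, he⟩ := exists_nhd_of_germ_eq F S hxO (fun f => fO f • sO) (fun f => aO • h f)
    fun f hf => sub_eq_zero.mp ((map_sub _ _ _).symm.trans (hx0 f hf))
  -- the element on the punctured neighbourhood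
  have hcross : ∀ p ∈ S ×ˢ S, F.presheaf.germ O x hxO (fO p.1 • h p.2) =
      F.presheaf.germ O x hxO (fO p.2 • h p.1) := by
    intro p hp
    obtain ⟨h1, h2⟩ := Finset.mem_product.mp hp
    have e1 := sub_eq_zero.mp ((map_sub _ _ _).symm.trans (hx0 _ h1))
    have e2 := sub_eq_zero.mp ((map_sub _ _ _).symm.trans (hx0 _ h2))
    rw [germ_smul, germ_smul] at e1 e2
    rw [germ_smul, germ_smul]
    refine hreg ?_
    have key : ∀ (r r' t : X.presheaf.stalk x) (m m' n : F.presheaf.stalk x),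
        r • n = t • m → r' • n = t • m' → t • (r • m') = t • (r' • m) := by
      intro r r' t m m' n u v
      rw [smul_comm t r, smul_comm t r', ← u, ← v, smul_comm]
    have := key _ _ _ _ _ _ e1 e2
    simp only [aO, germ_res_X, germ_res_F] at this
    exact this
  obtain ⟨O₂, hO₂, hxO₂, hc⟩ := exists_nhd_of_germ_eq F (S ×ˢ S) hxO
    (fun p => fO p.1 • h p.2) (fun p => fO p.2 • h p.1) hcross
  let N := O₁ ⊓ O₂
  have hN : N ≤ O := inf_le_left.trans hO₁
  have hNW : N ≤ W := hN.trans (hO.trans (inf_le_left.trans inf_le_left))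
  let fN : Γ(X, W) → Γ(X, N) := fun f => X.presheaf.map (homOfLE hNW).op f
  let hh' : Γ(X, W) → Γ(F, N) := fun f => F.presheaf.map (homOfLE hN).op (h f)
  let aN : Γ(X, N) := X.presheaf.map (homOfLE hN).op aO
  let sN : Γ(F, N) := F.presheaf.map (homOfLE hN).op sO
  have hfN : ∀ f, X.presheaf.map (homOfLE hN).op (fO f) = fN f := fun f => by
    simp only [fO, fN, ← ConcreteCategory.comp_apply, ← Functor.map_comp]
    rfl
  have hE : ∀ f ∈ S, fN f • sN = aN • hh' f := by
    intro f hf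
    have := congrArg (F.presheaf.map (homOfLE (inf_le_left : N ≤ O₁)).op) (he f hf)
    rw [map_map F hO₁ inf_le_left, map_map F hO₁ inf_le_left, Scheme.Modules.map_smul,
      Scheme.Modules.map_smul, hfN] at this
    exact this
  have hC : ∀ f ∈ S, ∀ f' ∈ S, fN f • hh' f' = fN f' • hh' f := by
    intro f hf f' hf'
    have := congrArg (F.presheaf.map (homOfLE (inf_le_right : N ≤ O₂)).op)
      (hc (f, f') (Finset.mem_product.mpr ⟨hf, hf'⟩))
    rw [map_map F hO₂ inf_le_right, map_map F hO₂ inf_le_right, Scheme.Modules.map_smul,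
      Scheme.Modules.map_smul, hfN, hfN] at this
    exact this
  have hun : ∀ (f : Γ(X, W)) (z : X) (hz : z ∈ N), z ∈ X.basicOpen f →
      IsUnit (X.presheaf.germ N z hz (fN f)) := fun f z hz hzf => by
    simp only [fN, germ_res_X, germ_res_F]
    exact (X.mem_basicOpen f z (hNW hz)).mp hzf
  let D : S → X.Opens := fun f => (N ⊓ U) ⊓ X.basicOpen f.1
  have hDN : ∀ f, D f ≤ N := fun f => inf_le_left.trans inf_le_left
  have hunit : ∀ f : S, IsUnit (X.presheaf.map (homOfLE (hDN f)).op (fN f.1)) := fun f => by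
    refine X.toRingedSpace.isUnit_of_isUnit_germ _ _ fun z hz => ?_
    erw [TopCat.Presheaf.germ_res_apply]
    exact hun f.1 z (hDN f hz) hz.2
  let t : ∀ f : S, Γ(F, D f) := fun f =>
    ((hunit f).unit⁻¹ : (Γ(X, D f))ˣ).1 • F.presheaf.map (homOfLE (hDN f)).op (hh' f.1)
  have ht : ∀ f : S, X.presheaf.map (homOfLE (hDN f)).op (fN f.1) • t f =
      F.presheaf.map (homOfLE (hDN f)).op (hh' f.1) := fun f => by
    simp only [t, smul_smul, IsUnit.mul_val_inv, one_smul]
  let Fs : TopCat.Sheaf Ab X.carrier := ⟨F.presheaf, Scheme.Modules.isSheaf F⟩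
  have hgerm : ∀ (f : S) (z : X) (hz : z ∈ D f),
      X.presheaf.germ N z (hDN f hz) (fN f.1) • F.presheaf.germ (D f) z hz (t f) =
        F.presheaf.germ N z (hDN f hz) (hh' f.1) := fun f z hz => by
    have := congrArg (F.presheaf.germ (D f) z hz) (ht f)
    rw [germ_smul, germ_res_X, germ_res_F] at this
    exact this
  have hcomp : TopCat.Presheaf.IsCompatible Fs.obj D t := by
    intro f f'
    refine Groth.Agent.QCohLib.section_ext _ _ fun z hz => ?_
    erw [TopCat.Presheaf.germ_res_apply, TopCat.Presheaf.germ_res_apply]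
    have u := hun f.1 z (hDN f hz.1) hz.1.2
    have u' := hun f'.1 z (hDN f' hz.2) hz.2.2
    refine (u.mul u').smul_left_cancel.mp ?_
    have e1 := hgerm f z hz.1
    have e2 := hgerm f' z hz.2
    have e3 := congrArg (F.presheaf.germ N z (hDN f hz.1)) (hC f.1 f.2 f'.1 f'.2)
    rw [germ_smul, germ_smul] at e3
    rw [mul_smul, smul_comm, e1]
    rw [mul_smul, e2]
    exact e3.symm
  obtain ⟨T, hT, -⟩ := Fs.existsUnique_gluing' D (N ⊓ U) (fun f => homOfLE inf_le_left)
    (fun z hz => by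
      obtain ⟨f, hf, hzf⟩ := hScov z (hNW hz.1) hz.2
      exact Opens.mem_iSup.mpr ⟨⟨f, hf⟩, hz, hzf⟩) t hcomp
  obtain ⟨T', hT'⟩ := (hbij N).2 T
  have hxN : x ∈ N := ⟨hxO₁, hxO₂⟩
  refine ⟨F.presheaf.germ N x hxN T', ?_⟩
  have hfin : sN = aN • T' := by
    refine (hbij N).1 (Groth.Agent.QCohLib.section_ext _ _ fun z hz => ?_)
    rw [germ_res_F F _ z hz sN, germ_res_F F _ z hz (aN • T'), germ_smul]
    obtain ⟨f, hf, hzf⟩ := hScov z (hNW hz.1) hz.2
    have hzD : z ∈ D ⟨f, hf⟩ := ⟨hz, hzf⟩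
    have hTz : F.presheaf.germ (D ⟨f, hf⟩) z hzD (t ⟨f, hf⟩) = F.presheaf.germ N z hz.1 T' := by
      rw [← hT ⟨f, hf⟩]
      erw [TopCat.Presheaf.germ_res_apply]
      rw [← hT', TopCat.Presheaf.germ_res_apply]
    have e1 := hgerm ⟨f, hf⟩ z hzD
    rw [hTz] at e1
    refine (hun f z hz.1 hzf).smul_left_cancel.mp ?_
    have e2 := congrArg (F.presheaf.germ N z hz.1) (hE f hf)
    rw [germ_smul, germ_smul] at e2
    rw [e2, smul_comm, e1]
  have := congrArg (F.presheaf.germ N x hxN) hfin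
  rw [germ_smul] at this
  simp only [sN, aN, sO, aO, germ_res_X, germ_res_F] at this
  exact this

/-- Sections extending uniquely across the complement of `U` force depth two outside `U`. -/
theorem two_le_depth_of_bijective_restrict [IsLocallyNoetherian X] (hF : Coh.IsCoh F) {U : X.Opens}
    (hbij : ∀ V : X.Opens, Function.Bijective (F.presheaf.map (homOfLE (inf_le_left : V ⊓ U ≤ V)).op))
    {x : X} (hxU : x ∉ U) :
    (2 : ℕ∞) ≤ LocCoh.depth (X.presheaf.stalk x) (F.presheaf.stalk x) := by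
  haveI := CohFinite.finite_stalk hF x
  have hkill := eq_zero_of_killed F (fun V => (hbij V).1) hxU
  have one : ∀ (M : Type u) [AddCommGroup M] [Module (X.presheaf.stalk x) M]
      [Module.Finite (X.presheaf.stalk x) M],
      (∀ q : M, (∀ r ∈ IsLocalRing.maximalIdeal (X.presheaf.stalk x), r • q = 0) → q = 0) →
      ∃ r ∈ IsLocalRing.maximalIdeal (X.presheaf.stalk x), IsSMulRegular M r := by
    intro M _ _ _ hM
    refine DepthLib.one_le_idealDepth_iff.mp (DepthLib.one_le_idealDepth_iff_forall_associatedPrimes.mpr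
      fun p hp hle => ?_)
    obtain ⟨hpr, q, hq⟩ := hp
    have hpm := (IsLocalRing.maximalIdeal.isMaximal _).eq_of_le hpr.ne_top hle
    subst hpm
    obtain ⟨m, hm0, hm⟩ := exists_killed_of_radical_eq (A := X.presheaf.stalk x) (m := q) (by
      rw [hq]
      congr 1
      ext r
      simp [Submodule.mem_colon_singleton])
    exact hm0 (hM m hm)
  obtain ⟨x₀, hx₀, hreg⟩ := one (F.presheaf.stalk x) hkill
  refine DepthLib.two_le_idealDepth_iff.mpr ⟨x₀, hx₀, hreg, ?_⟩
  refine one _ fun q hq => ?_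
  obtain ⟨g, rfl⟩ := Submodule.Quotient.mk_surjective _ q
  obtain ⟨y, rfl⟩ := exists_smul_eq_of_killed F hbij hxU x₀ hreg g fun r hr => by
    have := hq r hr
    rw [← Submodule.Quotient.mk_smul, Submodule.Quotient.mk_eq_zero,
      Submodule.mem_smul_pointwise_iff_exists] at this
    obtain ⟨y, -, hy⟩ := this
    exact ⟨y, hy.symm⟩
  rw [Submodule.Quotient.mk_eq_zero]
  exact Submodule.smul_mem_pointwise_smul _ _ _ Submodule.mem_top

end Groth.Agent.DepthSections
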