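import Groth.Agent.DepthSections.Basic
import Groth.Agent.DepthLib.LocalSequence
import Mathlib

/-! Depth at least two near a point along a closed set. -/

set_option linter.style.haveILetI false

namespace Groth.Agent.DepthSections

open AlgebraicGeometry CategoryTheory TopologicalSpace RingTheory.Sequence

universe u

/-- Depth at least two spreads to nearby specialisations. -/
theorem exists_two_le_depth_specializations {A M : Type u} [CommRing A] [IsNoetherianRing A]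
    [AddCommGroup M] [Module A M] [Module.Finite A M] (p : Ideal A) [p.IsPrime]
    (h : (2 : ℕ∞) ≤ LocCoh.depth (Localization.AtPrime p) (LocalizedModule p.primeCompl M)) :
    ∃ g ∉ p, ∀ q : Ideal A, ∀ _ : q.IsPrime, p ≤ q → g ∉ q →
      (2 : ℕ∞) ≤ LocCoh.depth (Localization.AtPrime q) (LocalizedModule q.primeCompl M) := by
  by_cases htop : LocCoh.depth (Localization.AtPrime p) (LocalizedModule p.primeCompl M) = ⊤
  · have hs : Subsingleton (LocalizedModule p.primeCompl M) := by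
      by_contra hne
      rw [not_subsingleton_iff_nontrivial] at hne
      exact DepthLib.depth_ne_top _ htop
    have hns : (⟨p, inferInstance⟩ : PrimeSpectrum A) ∉ Module.support A M :=
      Module.notMem_support_iff.mpr hs
    rw [Module.support_eq_zeroLocus, PrimeSpectrum.mem_zeroLocus, SetLike.coe_subset_coe,
      SetLike.not_le_iff_exists] at hns
    obtain ⟨g, hg, hgp⟩ := hns
    refine ⟨g, hgp, fun q hq _ hgq => ?_⟩
    have : Subsingleton (LocalizedModule q.primeCompl M) := by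
      suffices hq' : (⟨q, hq⟩ : PrimeSpectrum A) ∉ Module.support A M from Module.notMem_support_iff.mp hq'
      rw [Module.support_eq_zeroLocus, PrimeSpectrum.mem_zeroLocus, SetLike.coe_subset_coe,
        SetLike.not_le_iff_exists]
      exact ⟨g, hg, hgq⟩
    exact le_of_le_of_eq le_top (DepthLib.idealDepth_of_smul_top_eq (Subsingleton.elim _ _)).symm
  obtain ⟨r, hr⟩ := WithTop.ne_top_iff_exists.mp htop
  obtain ⟨g, hg, rs, hlen, hmem, hreg⟩ := DepthLib.exists_regOn_of_depth_eq r p hr.symm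
  refine ⟨g, hg, fun q hq hpq hgq => ?_⟩
  have h2 : ((2 : ℕ) : ℕ∞) ≤ (r : ℕ∞) := by rw [Nat.cast_ofNat]; exact le_of_le_of_eq h hr.symm
  refine le_trans h2 (DepthLib.natCast_le_idealDepth_iff.mpr
    ⟨rs.map (algebraMap A (Localization q.primeCompl)), by rw [List.length_map, hlen],
      hreg q.primeCompl ⟨1, by simpa using hgq⟩, fun a ha => ?_⟩)
  obtain ⟨b, hb, rfl⟩ := List.mem_map.mp ha
  exact (IsLocalization.AtPrime.to_map_mem_maximal_iff _ q b).mpr (hpq (hmem b hb))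

variable {X : Scheme.{u}} (F : X.Modules)

/-- Depth two at the generisations of `x` in a closed set `C` gives depth two on `C` near `x`. -/
theorem exists_nhd_two_le_depth [IsLocallyNoetherian X] (hF : Coh.IsCoh F) {C : Set X} (hC : IsClosed C) (x : X)
    (h : ∀ y : X, y ⤳ x → y ∈ C → (2 : ℕ∞) ≤ LocCoh.depth (X.presheaf.stalk y) (F.presheaf.stalk y))
    (V : X.Opens) (hxV : x ∈ V) :
    ∃ O : X.Opens, IsAffineOpen O ∧ O ≤ V ∧ x ∈ O ∧ ∀ z ∈ O, z ∈ C →
      (2 : ℕ∞) ≤ LocCoh.depth (X.presheaf.stalk z) (F.presheaf.stalk z) := by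
  classical
  haveI := hF.1
  obtain ⟨W, hW, hxW, hWV⟩ := exists_isAffineOpen_mem_and_subset (X := X) (x := x) (U := V) hxV
  haveI : IsNoetherianRing Γ(X, W) := IsLocallyNoetherian.component_noetherian (X := X) ⟨W, hW⟩
  haveI := noetherianSpace_of_isAffineOpen W hW
  haveI : Module.Finite Γ(X, W) Γ(F, W) := (Groth.Agent.QCohLib.isCoh_iff.mp hF).2 ⟨W, hW⟩
  let B : Set W := {z | z.1 ∈ C ∧
    ¬ (2 : ℕ∞) ≤ LocCoh.depth (X.presheaf.stalk z.1) (F.presheaf.stalk z.1)}
  suffices hxB : (⟨x, hxW⟩ : W) ∉ closure B by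
    obtain ⟨N, hN, hNB⟩ : ∃ N : X.Opens, x ∈ N ∧ ∀ z : W, z.1 ∈ N → z ∉ B :=
      ⟨⟨Subtype.val '' (closure B)ᶜ, W.isOpen.isOpenMap_subtype_val _ isClosed_closure.isOpen_compl⟩,
        ⟨_, hxB, rfl⟩, fun z ⟨z', hz', he⟩ hz => hz' (Subtype.ext he ▸ subset_closure hz)⟩
    obtain ⟨O, hO, hxO, hOle⟩ := exists_isAffineOpen_mem_and_subset (X := X) (x := x) (U := N ⊓ W) ⟨hN, hxW⟩
    refine ⟨O, hO, fun z hz => hWV (hOle hz).2, hxO, fun z hz hzC => ?_⟩
    by_contra hne
    exact hNB ⟨z, (hOle hz).2⟩ (hOle hz).1 ⟨hzC, hne⟩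
  intro hx
  haveI : QuasiSober W := W.isOpen.isOpenEmbedding_subtypeVal.quasiSober
  obtain ⟨Zs, hfin, hcl, hirr, hcov⟩ :=
    NoetherianSpace.exists_finite_set_isClosed_irreducible (isClosed_closure (s := B))
  -- minimise the family
  obtain ⟨Q₀, hQ₀, hxQ₀⟩ := hcov.subset hx
  obtain ⟨Q, hle, hmax⟩ := hfin.exists_le_maximal hQ₀
  obtain ⟨y, hy⟩ := QuasiSober.sober (hirr Q hmax.1) (hcl Q hmax.1)
  have hyC : y.1 ∈ C := by
    have h1 : Subtype.val '' closure B ⊆ C := fun z ⟨z', hz', e⟩ => by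
      have h2 : z' ∈ closure {w : W | w.1 ∈ C} := closure_mono (fun w hw => hw.1) hz'
      have h3 := ((hC.preimage continuous_subtype_val).closure_eq).subset h2
      exact e ▸ h3
    exact h1 ⟨y, hcov.symm.le ⟨Q, hmax.1, hy.mem⟩, rfl⟩
  have hyx : y.1 ⤳ x := (hy.specializes (hle hxQ₀)).map continuous_subtype_val
  have hd := h y.1 hyx hyC
  rw [← depth_localization_eq F hW y.1 y.2] at hd
  obtain ⟨g, hg, hgq⟩ := exists_two_le_depth_specializations _ hd
  have hclR : IsClosed (⋃₀ (Zs \ {Q})) :=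
    Set.sUnion_eq_biUnion ▸ hfin.sdiff.isClosed_biUnion fun R hR => hcl R hR.1
  have hyR : y ∉ ⋃₀ (Zs \ {Q}) := by
    rintro ⟨R, ⟨hR, hRQ⟩, hyR⟩
    have hQR : Q ⊆ R := hy.def ▸ (hcl R hR).closure_subset_iff.mpr (Set.singleton_subset_iff.mpr hyR)
    exact hRQ (le_antisymm (hmax.2 hR hQR) hQR)
  obtain ⟨z, ⟨hzR, hzg⟩, hzB⟩ := mem_closure_iff.mp (hcov.symm.le ⟨Q, hmax.1, hy.mem⟩)
    ((⋃₀ (Zs \ {Q}))ᶜ ∩ Subtype.val ⁻¹' (X.basicOpen g : Set X))
    (hclR.isOpen_compl.inter ((X.basicOpen g).isOpen.preimage continuous_subtype_val))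
    ⟨hyR, (InvExtend.mem_basicOpen_iff hW y.2 g).mpr hg⟩
  obtain ⟨R, hR, hzRm⟩ := hcov.subset (subset_closure hzB)
  have hRQ : R = Q := by
    by_contra hne
    exact hzR ⟨R, ⟨hR, hne⟩, hzRm⟩
  subst hRQ
  have hyz : y.1 ⤳ z.1 := (hy.specializes hzRm).map continuous_subtype_val
  refine hzB.2 ?_
  rw [← depth_localization_eq F hW z.1 z.2]
  exact hgq _ _ ((InvExtend.specializes_iff hW z.2 y.2).mp hyz)
    ((InvExtend.mem_basicOpen_iff hW z.2 g).mp hzg)

end Groth.Agent.DepthSections
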