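import Groth.Prelude.Def_CAlg
import Groth.Agent.TraceForm.Basic
import Groth.Agent.DepthLib.Localization
import Mathlib

/-! Purity of the branch locus of finite flat algebras: unramified where the depth is at most one. -/

set_option autoImplicit false
set_option linter.style.haveILetI false

universe u

open TensorProduct

namespace Groth.Agent.DepthSections

variable {A B : Type u} [CommRing A] [CommRing B] [Algebra A B]

/-- If `B[1/g]` is formally unramified over `A` then so is the fibre at a prime avoiding `g`. -/
theorem fibre_formallyUnramified_of_away (g : A) (Bg : Type u) [CommRing Bg] [Algebra A Bg]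
    [Algebra B Bg] [IsScalarTower A B Bg] [IsLocalization.Away (algebraMap A B g) Bg]
    [Algebra.FormallyUnramified A Bg] (p : Ideal A) [p.IsPrime] (hg : g ∉ p) :
    Algebra.FormallyUnramified p.ResidueField (p.ResidueField ⊗[A] B) := by
  let _ : Algebra B (p.ResidueField ⊗[A] B) := Algebra.TensorProduct.rightAlgebra
  have hu : IsUnit (algebraMap A p.ResidueField g) :=
    isUnit_iff_ne_zero.mpr (by rwa [ne_eq, Ideal.algebraMap_residueField_eq_zero])
  have h0 : ∀ ω : Ω[B⁄A], (1 : p.ResidueField) ⊗ₜ[A] ω = 0 := fun ω => by
    obtain ⟨⟨_, n, rfl⟩, hc⟩ := (IsLocalizedModule.eq_zero_iff (Submonoid.powers (algebraMap A B g))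
      (KaehlerDifferential.map A A B Bg)).mp (Subsingleton.elim (KaehlerDifferential.map A A B Bg ω) 0)
    have hc' : g ^ n • ω = 0 := by
      rw [← algebraMap_smul B (g ^ n), map_pow]
      exact hc
    have h1 : algebraMap A p.ResidueField (g ^ n) • ((1 : p.ResidueField) ⊗ₜ[A] ω) = 0 := by
      rw [algebraMap_smul, ← TensorProduct.tmul_smul, hc', TensorProduct.tmul_zero]
    rw [map_pow] at h1
    exact (hu.pow n).smul_eq_zero.mp h1
  haveI : Subsingleton (p.ResidueField ⊗[A] Ω[B⁄A]) := subsingleton_of_forall_eq 0 fun z => by
    induction z using TensorProduct.induction_on with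
    | zero => rfl
    | add a b ha hb => rw [ha, hb, add_zero]
    | tmul c y => rw [← mul_one c, ← smul_eq_mul, ← TensorProduct.smul_tmul', h0, smul_zero]
  exact ⟨(KaehlerDifferential.tensorKaehlerEquivBase A p.ResidueField B
    (p.ResidueField ⊗[A] B)).symm.subsingleton⟩

/-- If the base change is etale, the discriminant becomes a unit. -/
theorem isUnit_algebraMap_discr {R C : Type u} [CommRing R] [CommRing C] [Algebra R C] (L : Type u) [Field L]
    [Algebra R L] [Algebra.Etale L (L ⊗[R] C)] {ι : Type u} [Fintype ι] [DecidableEq ι] (b : Module.Basis ι R C) :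
    IsUnit (algebraMap R L (Algebra.discr R b)) := by
  rw [← TraceForm.discr_baseChange b L]
  exact TraceForm.isUnit_discr_of_etale _

/-- A finite flat algebra over a Noetherian ring is etale if at each prime either the fibre is
unramified or the depth is at least two. -/
theorem etale_of_fibres_or_depth [IsNoetherianRing A] [Module.Finite A B] [Module.Flat A B]
    (h : ∀ (p : Ideal A) [p.IsPrime], Algebra.FormallyUnramified p.ResidueField (p.ResidueField ⊗[A] B) ∨
      (2 : ℕ∞) ≤ LocCoh.depth (Localization.AtPrime p) (Localization.AtPrime p)) :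
    Algebra.Etale A B := by
  haveI : Algebra.FinitePresentation A B := Algebra.FinitePresentation.of_finiteType.mp inferInstance
  suffices Algebra.FormallyUnramified A B from Algebra.Etale.of_formallyUnramified_of_flat
  refine TraceForm.formallyUnramified_of_fibres fun p _ => ?_
  let R := Localization.AtPrime p
  haveI : Module.Free R (R ⊗[A] B) := Module.free_of_flat_of_isLocalRing
  let b := Module.Free.chooseBasis R (R ⊗[A] B)
  classical
  by_cases hd : IsUnit (Algebra.discr R b)
  · haveI := TraceForm.etale_of_isUnit_discr b hd
    haveI : Algebra.FormallyUnramified p.ResidueField (p.ResidueField ⊗[R] (R ⊗[A] B)) := inferInstance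
    exact Algebra.FormallyUnramified.of_equiv
      (Algebra.TensorProduct.cancelBaseChange A R p.ResidueField p.ResidueField B)
  · exfalso
    obtain ⟨q', hq'⟩ := Ideal.nonempty_minimalPrimes
      (I := Ideal.span {Algebra.discr R b}) (by rwa [ne_eq, Ideal.span_singleton_eq_top])
    haveI : q'.IsPrime := hq'.1.1
    have hht : q'.height ≤ 1 := Ideal.height_le_one_of_isPrincipal_of_mem_minimalPrimes _ q' hq'
    let q : Ideal A := q'.under A
    rcases h q with hq | hq
    · let inc : q.ResidueField →ₐ[A] q'.ResidueField :=
        Ideal.ResidueField.mapₐ q q' (Algebra.ofId A R) rfl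
      letI : Algebra q.ResidueField q'.ResidueField := inc.toAlgebra
      haveI : IsScalarTower A q.ResidueField q'.ResidueField :=
        IsScalarTower.of_algebraMap_eq fun a => (inc.commutes a).symm
      haveI := hq
      haveI : Algebra.FormallyUnramified q'.ResidueField
          (q'.ResidueField ⊗[q.ResidueField] (q.ResidueField ⊗[A] B)) := inferInstance
      haveI : Algebra.FormallyUnramified q'.ResidueField (q'.ResidueField ⊗[A] B) :=
        Algebra.FormallyUnramified.of_equiv
          (Algebra.TensorProduct.cancelBaseChange A q.ResidueField q'.ResidueField q'.ResidueField B)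
      haveI : Algebra.FormallyUnramified q'.ResidueField (q'.ResidueField ⊗[R] (R ⊗[A] B)) :=
        Algebra.FormallyUnramified.of_equiv
          (Algebra.TensorProduct.cancelBaseChange A R q'.ResidueField q'.ResidueField B).symm
      haveI : Algebra.Etale q'.ResidueField (q'.ResidueField ⊗[R] (R ⊗[A] B)) :=
        Algebra.Etale.of_formallyUnramified_of_flat
      have hK := isUnit_algebraMap_discr q'.ResidueField b
      rw [(Ideal.algebraMap_residueField_eq_zero).mpr (hq'.1.2 (Ideal.subset_span rfl))] at hK
      exact not_isUnit_zero hK
    · have h1 : q.height = q'.height := IsLocalization.height_under p.primeCompl q'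
      have h2 := (DepthLib.depth_le_supportDim (R := Localization.AtPrime q) (Localization.AtPrime q)).trans
        (Module.supportDim_le_ringKrullDim _ _)
      rw [IsLocalization.AtPrime.ringKrullDim_eq_height q (Localization.AtPrime q), h1] at h2
      have h3 : (2 : ℕ∞) ≤ q'.height := by
        have : ((2 : ℕ∞) : WithBot ℕ∞) ≤ (q'.height : WithBot ℕ∞) := (WithBot.coe_le_coe.mpr hq).trans h2
        exact WithBot.coe_le_coe.mp this
      exact absurd (h3.trans hht) (by norm_num)

end Groth.Agent.DepthSections
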