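import Groth.Agent.DepthSections.EtaleDepth
import Mathlib

/-! Purity for finite flat algebras: unramified in codimension at most one implies etale. -/

set_option autoImplicit false
set_option linter.style.haveILetI false

universe u

open TensorProduct

namespace Groth.Agent.DepthSections

variable {A B : Type u} [CommRing A] [CommRing B] [Algebra A B]

/-- A finite flat algebra over a Noetherian ring is etale if at each prime either the fibre is
unramified or the height is at least two. -/
theorem etale_of_fibres_or_height [IsNoetherianRing A] [Module.Finite A B] [Module.Flat A B]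
    (h : ∀ (p : Ideal A) [p.IsPrime], Algebra.FormallyUnramified p.ResidueField (p.ResidueField ⊗[A] B) ∨
      (2 : ℕ∞) ≤ p.height) :
    Algebra.Etale A B := by
  haveI : Algebra.FinitePresentation A B := Algebra.FinitePresentation.of_finiteType.mp inferInstance
  suffices Algebra.FormallyUnramified A B from Algebra.Etale.of_formallyUnramified_of_flat
  refine TraceForm.formallyUnramified_of_fibres fun p _ => ?_
  let R := Localization.AtPrime p
  haveI : Module.Free R (R ⊗[A] B) := Module.free_of_flat_of_isLocalRing
  let b := Module.Free.chooseBasis R (R ⊗[A] B)
  classical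
  by_cases hd : IsUnit (Algebra.discr R b)
  · haveI := TraceForm.etale_of_isUnit_discr b hd
    haveI : Algebra.FormallyUnramified p.ResidueField (p.ResidueField ⊗[R] (R ⊗[A] B)) := inferInstance
    exact Algebra.FormallyUnramified.of_equiv
      (Algebra.TensorProduct.cancelBaseChange A R p.ResidueField p.ResidueField B)
  · exfalso
    obtain ⟨q', hq'⟩ := Ideal.nonempty_minimalPrimes
      (I := Ideal.span {Algebra.discr R b}) (by rwa [ne_eq, Ideal.span_singleton_eq_top])
    haveI : q'.IsPrime := hq'.1.1
    have hht : q'.height ≤ 1 := Ideal.height_le_one_of_isPrincipal_of_mem_minimalPrimes _ q' hq'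
    let q : Ideal A := q'.under A
    rcases h q with hq | hq
    · let inc : q.ResidueField →ₐ[A] q'.ResidueField :=
        Ideal.ResidueField.mapₐ q q' (Algebra.ofId A R) rfl
      letI : Algebra q.ResidueField q'.ResidueField := inc.toAlgebra
      haveI : IsScalarTower A q.ResidueField q'.ResidueField :=
        IsScalarTower.of_algebraMap_eq fun a => (inc.commutes a).symm
      haveI := hq
      haveI : Algebra.FormallyUnramified q'.ResidueField
          (q'.ResidueField ⊗[q.ResidueField] (q.ResidueField ⊗[A] B)) := inferInstance
      haveI : Algebra.FormallyUnramified q'.ResidueField (q'.ResidueField ⊗[A] B) :=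
        Algebra.FormallyUnramified.of_equiv
          (Algebra.TensorProduct.cancelBaseChange A q.ResidueField q'.ResidueField q'.ResidueField B)
      haveI : Algebra.FormallyUnramified q'.ResidueField (q'.ResidueField ⊗[R] (R ⊗[A] B)) :=
        Algebra.FormallyUnramified.of_equiv
          (Algebra.TensorProduct.cancelBaseChange A R q'.ResidueField q'.ResidueField B).symm
      haveI : Algebra.Etale q'.ResidueField (q'.ResidueField ⊗[R] (R ⊗[A] B)) :=
        Algebra.Etale.of_formallyUnramified_of_flat
      have hK := isUnit_algebraMap_discr q'.ResidueField b
      rw [(Ideal.algebraMap_residueField_eq_zero).mpr (hq'.1.2 (Ideal.subset_span rfl))] at hK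
      exact not_isUnit_zero hK
    · have h1 : q.height = q'.height := IsLocalization.height_under p.primeCompl q'
      exact absurd ((h1 ▸ hq).trans hht) (by norm_num)

end Groth.Agent.DepthSections
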