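import Groth.Prelude.Def_FEt
import Groth.Agent.DepthSections.Maps
import Mathlib

/-! Restriction of finite etale covers across depth two is fully faithful. -/

set_option linter.style.haveILetI false

namespace Groth.Agent.DepthSections

open AlgebraicGeometry CategoryTheory Limits

universe u

variable {X : Scheme.{u}} [IsLocallyNoetherian X] (U : X.Opens)
  (h : ∀ x : X, x ∉ U → (2 : ℕ∞) ≤ LocCoh.depth (X.presheaf.stalk x) (X.presheaf.stalk x))

include h in
theorem existsUnique_extend_cover {Z G : Scheme.{u}} (p : Z ⟶ X) [IsFinite p] [Etale p]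
    (q : G ⟶ X) [IsAffineHom q]
    (ψ : pullback p U.ι ⟶ G) (hψ : ψ ≫ q = pullback.fst p U.ι ≫ p) :
    ∃! g : Z ⟶ G, g ≫ q = p ∧ pullback.fst p U.ι ≫ g = ψ := by
  haveI : IsLocallyNoetherian Z := LocallyOfFiniteType.isLocallyNoetherian p
  refine existsUnique_extend_over p q (pullback.fst p U.ι) (fun z hz => ?_) ψ hψ
  refine (h (p z) fun hmem => hz ?_).trans (depth_stalk_le_of_flat p z)
  show z ∈ Set.range (pullback.fst p U.ι)
  rw [Scheme.Pullback.range_fst, Scheme.Opens.range_ι]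
  exact hmem

omit [IsLocallyNoetherian X] in
theorem restrict_map_left_fst {Y Y' : FEt.Cat X} (φ : Y ⟶ Y') :
    ((FEt.restrict U.ι).map φ).left ≫ pullback.fst Y'.hom U.ι = pullback.fst Y.hom U.ι ≫ φ.left :=
  pullback.lift_fst _ _ _

include h in
theorem full_restrict : (FEt.restrict U.ι).Full := by
  refine ⟨fun {Y Y'} γ => ?_⟩
  haveI : IsFinite Y.hom := Y.prop.1
  haveI : Etale Y.hom := Y.prop.2
  haveI : IsFinite Y'.hom := Y'.prop.1
  let γl : pullback Y.hom U.ι ⟶ pullback Y'.hom U.ι := γ.left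
  have h1 : γl ≫ pullback.snd Y'.hom U.ι = pullback.snd Y.hom U.ι := Over.w γ.hom
  have hw : (γl ≫ pullback.fst Y'.hom U.ι) ≫ Y'.hom = pullback.fst Y.hom U.ι ≫ Y.hom := by
    rw [Category.assoc, pullback.condition, ← Category.assoc, h1, ← pullback.condition]
  obtain ⟨g, ⟨hg1, hg2⟩, -⟩ := existsUnique_extend_cover U h Y.hom Y'.hom _ hw
  refine ⟨MorphismProperty.Over.homMk g hg1 trivial, ?_⟩
  ext
  show ((FEt.restrict U.ι).map (MorphismProperty.Over.homMk g hg1 trivial : Y ⟶ Y')).left = γl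
  refine pullback.hom_ext ?_ ?_
  · exact (restrict_map_left_fst U _).trans hg2
  · exact (pullback.lift_snd _ _ _).trans h1.symm

include h in
theorem faithful_restrict : (FEt.restrict U.ι).Faithful := by
  refine ⟨fun {Y Y'} φ φ' hφ => ?_⟩
  haveI : IsFinite Y.hom := Y.prop.1
  haveI : Etale Y.hom := Y.prop.2
  haveI : IsFinite Y'.hom := Y'.prop.1
  have h1 : pullback.fst Y.hom U.ι ≫ φ.left = pullback.fst Y.hom U.ι ≫ φ'.left :=
    (restrict_map_left_fst U φ).symm.trans
      ((congrArg (fun (m : (FEt.restrict U.ι).obj Y ⟶ (FEt.restrict U.ι).obj Y') => m.left ≫ pullback.fst Y'.hom U.ι) hφ).trans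
        (restrict_map_left_fst U φ'))
  have hw : (pullback.fst Y.hom U.ι ≫ φ.left) ≫ Y'.hom = pullback.fst Y.hom U.ι ≫ Y.hom :=
    (Category.assoc _ _ _).trans (congrArg _ (Over.w φ.hom))
  ext
  exact (existsUnique_extend_cover U h Y.hom Y'.hom _ hw).unique ⟨Over.w φ.hom, rfl⟩ ⟨Over.w φ'.hom, h1.symm⟩

end Groth.Agent.DepthSections
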