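import Groth.Agent.DepthLib.Reflexive
import Groth.Agent.DepthLib.ReflexiveDomain
import Groth.Agent.PureClosed.Basic
import Mathlib

/-! Algebraic lemmas on reflexive modules and depth two. -/

set_option linter.style.haveILetI false

namespace Groth.Agent.DepthSections

open Pointwise

universe u v w

/-- Reflexivity is invariant under semilinear bijections. -/
theorem isReflexive_of_semilinear {R S : Type*} [CommRing R] [CommRing S] (σ : R ≃+* S) {M N : Type*}
    [AddCommGroup M] [Module R M] [AddCommGroup N] [Module S N] (e : M ≃+ N)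
    (he : ∀ (r : R) (m : M), e (r • m) = σ r • e m) [hr : Module.IsReflexive R M] :
    Module.IsReflexive S N := by
  have he' : ∀ (s : S) (n : N), e.symm (s • n) = σ.symm s • e.symm n := fun s n => by
    apply e.injective
    rw [he, e.apply_symm_apply, e.apply_symm_apply, σ.apply_symm_apply]
  let T : Module.Dual R M → Module.Dual S N := fun φ =>
    { toFun := fun n => σ (φ (e.symm n))
      map_add' := fun a b => by simp
      map_smul' := fun s n => by rw [he', map_smul, smul_eq_mul, map_mul, σ.apply_symm_apply]; rfl }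
  let T' : Module.Dual S N → Module.Dual R M := fun ψ =>
    { toFun := fun m => σ.symm (ψ (e m))
      map_add' := fun a b => by simp
      map_smul' := fun r m => by rw [he, map_smul, smul_eq_mul, map_mul, σ.symm_apply_apply]; rfl }
  have hTT' : ∀ ψ, T (T' ψ) = ψ := fun ψ => LinearMap.ext fun n => by simp [T, T']
  have hb := Module.bijective_dual_eval R M
  refine ⟨⟨fun n n' h => e.symm.injective (hb.1 (LinearMap.ext fun φ => σ.injective ?_)), fun Φ => ?_⟩⟩
  · exact LinearMap.congr_fun h (T φ)
  · let Φ' : Module.Dual R (Module.Dual R M) :=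
      { toFun := fun φ => σ.symm (Φ (T φ))
        map_add' := fun a b => by
          rw [show T (a + b) = T a + T b from LinearMap.ext fun n => by simp [T], map_add, map_add]
        map_smul' := fun r φ => by
          rw [show T (r • φ) = σ r • T φ from LinearMap.ext fun n => by simp [T], map_smul, smul_eq_mul,
            map_mul, σ.symm_apply_apply]
          rfl }
    obtain ⟨m, hm⟩ := hb.2 Φ'
    refine ⟨e m, LinearMap.ext fun ψ => ?_⟩
    have := LinearMap.congr_fun hm (T' ψ)
    simp only [Φ', LinearMap.coe_mk, AddHom.coe_mk, hTT'] at this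
    exact σ.symm.injective this

theorem isReflexive_semilinear_iff {R S : Type*} [CommRing R] [CommRing S] (σ : R ≃+* S) {M N : Type*}
    [AddCommGroup M] [Module R M] [AddCommGroup N] [Module S N] (e : M ≃+ N)
    (he : ∀ (r : R) (m : M), e (r • m) = σ r • e m) : Module.IsReflexive R M ↔ Module.IsReflexive S N :=
  ⟨fun _ => isReflexive_of_semilinear σ e he, fun _ => isReflexive_of_semilinear σ.symm e.symm fun s n => by
    apply e.injective
    rw [he, e.apply_symm_apply, e.apply_symm_apply, σ.apply_symm_apply]⟩

/-- Reflexivity of any localisation of a module at a prime. -/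
theorem isReflexive_isLocalizedModule_iff {A : Type u} [CommRing A] (p : Ideal A) [p.IsPrime]
    (R' : Type v) [CommRing R'] [Algebra A R'] [IsLocalization.AtPrime R' p]
    {M : Type u} [AddCommGroup M] [Module A M] {M' : Type w} [AddCommGroup M'] [Module A M'] [Module R' M']
    [IsScalarTower A R' M'] (f : M →ₗ[A] M') [IsLocalizedModule p.primeCompl f] :
    Module.IsReflexive R' M' ↔
      Module.IsReflexive (Localization.AtPrime p) (LocalizedModule p.primeCompl M) := by
  let σ := IsLocalization.algEquiv p.primeCompl R' (Localization.AtPrime p)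
  let e : M' ≃ₗ[A] LocalizedModule p.primeCompl M := (IsLocalizedModule.iso p.primeCompl f).symm
  refine isReflexive_semilinear_iff σ.toRingEquiv e.toAddEquiv fun r m => ?_
  obtain ⟨⟨a, s⟩, hr⟩ := IsLocalization.surj p.primeCompl r
  have hu : IsUnit (algebraMap A (Localization.AtPrime p) s) := IsLocalization.map_units _ s
  refine hu.smul_left_cancel.mp ?_
  show algebraMap A (Localization.AtPrime p) s • e (r • m) = algebraMap A (Localization.AtPrime p) s • (σ r • e m)
  rw [algebraMap_smul, ← map_smul, ← algebraMap_smul R' (s : A) (r • m), ← mul_smul, ← mul_smul]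
  rw [mul_comm, hr, algebraMap_smul, map_smul, ← algebraMap_smul (Localization.AtPrime p) a (e m)]
  congr 1
  rw [← σ.commutes a, ← hr, map_mul, σ.commutes, mul_comm]

/-- A finite reflexive module over a ring of depth two has depth two. -/
theorem two_le_depth_of_isReflexive {A : Type u} [CommRing A] [IsNoetherianRing A] [IsLocalRing A]
    {M : Type u} [AddCommGroup M] [Module A M] [Module.Finite A M] [Module.IsReflexive A M]
    (h : (2 : ℕ∞) ≤ LocCoh.depth A A) : (2 : ℕ∞) ≤ LocCoh.depth A M := by
  have h2 := DepthLib.two_le_idealDepth_linearMap (I := IsLocalRing.maximalIdeal A)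
    (M := Module.Dual A M) (N := A) h
  exact le_of_le_of_eq h2 (DepthLib.depth_congr (Module.evalEquiv A M)).symm

/-- A torsion-free module that agrees with a finitely generated submodule off a depth two closed set is finite. -/
theorem finite_of_two_regular {A : Type u} [CommRing A] [IsNoetherianRing A] [IsDomain A]
    {N : Type v} [AddCommGroup N] [Module A N] (htf : ∀ (a : A) (n : N), a • n = 0 → a = 0 ∨ n = 0)
    (M : Submodule A N) (hM : M.FG) {x y : A} (hx0 : x ≠ 0)
    (hy : IsSMulRegular (QuotSMulTop x A) y)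
    (h : ∀ n : N, ∃ a b : ℕ, x ^ a • n ∈ M ∧ y ^ b • n ∈ M) : Module.Finite A N := by
  haveI : Module.Finite A M := Module.Finite.iff_fg.mpr hM
  haveI : Module.IsTorsionFree A M := by
    refine ⟨fun r hr m m' e => ?_⟩
    have : r • ((m : N) - m') = 0 := by
      rw [smul_sub, sub_eq_zero]
      exact congrArg Subtype.val e
    exact Subtype.ext (sub_eq_zero.mp ((htf _ _ this).resolve_left hr.ne_zero))
  obtain ⟨r, π, hπ⟩ := Module.Finite.exists_fin' A (Module.Dual A M)
  let ι : M →ₗ[A] (Fin r → A) := LinearMap.pi fun k => π (Pi.single k 1)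
  have hι : Function.Injective ι := by
    rw [injective_iff_map_eq_zero]
    intro m hm
    by_contra hne
    obtain ⟨ψ, hψ⟩ := DepthLib.exists_dual_ne_zero (R := A) hne
    obtain ⟨c, rfl⟩ := hπ ψ
    refine hψ ?_
    rw [pi_eq_sum_univ' c, map_sum, LinearMap.sum_apply]
    refine Finset.sum_eq_zero fun k _ => ?_
    rw [map_smul, LinearMap.smul_apply]
    have := congrFun hm k
    simp only [ι, LinearMap.pi_apply, Pi.zero_apply] at this
    rw [this, smul_zero]
  have hxr : IsSMulRegular A x := (IsRegular.of_ne_zero hx0).left.isSMulRegular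
  have hex : ∀ n : N, ∃ w : Fin r → A, ∀ (c : A) (hc : c • n ∈ M), ι ⟨c • n, hc⟩ = c • w := by
    intro n
    obtain ⟨a, b, ha, hb⟩ := h n
    have hdiv : ∀ k, ∃ w, ι ⟨x ^ a • n, ha⟩ k = x ^ a • w := fun k => by
      refine PureClosed.smul_mem_pow_smul_top' hxr hy a b _ (ι ⟨y ^ b • n, hb⟩ k) ?_
      show (y ^ b • ι ⟨x ^ a • n, ha⟩) k = (x ^ a • ι ⟨y ^ b • n, hb⟩) k
      rw [← map_smul, ← map_smul]
      exact congrFun (congrArg ι (Subtype.ext (smul_comm (y ^ b) (x ^ a) n))) k
    choose w hw using hdiv
    refine ⟨w, fun c hc => funext fun k => ?_⟩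
    refine (hxr.pow a) ?_
    show x ^ a • ι ⟨c • n, hc⟩ k = x ^ a • (c • w k)
    rw [smul_comm (x ^ a) c, ← hw]
    show (x ^ a • ι ⟨c • n, hc⟩) k = (c • ι ⟨x ^ a • n, ha⟩) k
    rw [← map_smul, ← map_smul]
    exact congrFun (congrArg ι (Subtype.ext (smul_comm (x ^ a) c n))) k
  choose w hw using hex
  have huniq : ∀ (n : N) (v : Fin r → A) (a : ℕ) (ha : x ^ a • n ∈ M),
      ι ⟨x ^ a • n, ha⟩ = x ^ a • v → w n = v := fun n v a ha e =>
    funext fun k => (hxr.pow a) (congrFun ((hw n _ ha).symm.trans e) k)
  have hmem : ∀ (n : N) (a a' : ℕ), a ≤ a' → x ^ a • n ∈ M → x ^ a' • n ∈ M := fun n a a' hle ha => by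
    rw [← Nat.sub_add_cancel hle, pow_add, mul_smul]
    exact M.smul_mem _ ha
  let Φ : N →ₗ[A] (Fin r → A) :=
    { toFun := w
      map_add' := fun n n' => by
        obtain ⟨a, -, ha, -⟩ := h n
        obtain ⟨a', -, ha', -⟩ := h n'
        have h1 := hmem n a _ (le_max_left a a') ha
        have h2 := hmem n' a' _ (le_max_right a a') ha'
        have h3 : x ^ max a a' • (n + n') ∈ M := by rw [smul_add]; exact M.add_mem h1 h2
        refine huniq _ _ (max a a') h3 ?_
        rw [smul_add (x ^ max a a') (w n), ← hw n _ h1, ← hw n' _ h2, ← map_add]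
        exact congrArg ι (Subtype.ext (smul_add _ _ _))
      map_smul' := fun c n => by
        obtain ⟨a, -, ha, -⟩ := h n
        have h3 : x ^ a • (c • n) ∈ M := by rw [smul_comm]; exact M.smul_mem c ha
        refine huniq _ _ a h3 ?_
        rw [RingHom.id_apply]
        refine Eq.trans ?_ (smul_comm c (x ^ a) (w n))
        rw [← hw n _ ha, ← map_smul]
        exact congrArg ι (Subtype.ext (smul_comm _ _ _)) }
  refine Module.Finite.of_injective Φ ((injective_iff_map_eq_zero Φ).mpr fun n hn => ?_)
  obtain ⟨a, -, ha, -⟩ := h n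
  have h0 : ι ⟨x ^ a • n, ha⟩ = ι 0 := by
    rw [hw n _ ha, show w n = 0 from hn, smul_zero, map_zero]
  exact (htf _ _ (congrArg Subtype.val (hι h0))).resolve_left (pow_ne_zero a hx0)

end Groth.Agent.DepthSections
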