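import Groth.Agent.DepthSections.Converse
import Groth.Agent.DepthSections.ReflexiveLemmas
import Groth.Agent.FlatDescent.RestrictFlat
import Groth.Agent.ParaFLib.Basic
import Mathlib

/-! Reflexive modules extend across depth two. -/

set_option linter.style.haveILetI false
set_option backward.isDefEq.respectTransparency false

namespace Groth.Agent.DepthSections

open AlgebraicGeometry CategoryTheory TopologicalSpace Opposite
open Groth.Agent.QCohLib (germ_smul resModule resLinearMap isLocalizedModule_res)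
open Groth.Agent.InvExtend (pt pt_mem primeIdealOf_pt)

universe u

variable {X : Scheme.{u}}

theorem isReflexive_stalk_of_iso {M N : X.Modules} (e : M ≅ N) (x : X)
    [Module.IsReflexive (X.presheaf.stalk x) (M.presheaf.stalk x)] :
    Module.IsReflexive (X.presheaf.stalk x) (N.presheaf.stalk x) :=
  Module.equiv (LinearEquiv.ofBijective (QCohLib.stalkLinearMap e.hom x)
    ((QCohLib.isIso_iff_stalk_bijective e.hom).mp inferInstance x))

theorem isReflexive_stalk_restrict_iff {Y : Scheme.{u}} (j : Y ⟶ X) [IsOpenImmersion j] (M : X.Modules) (y : Y) :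
    Module.IsReflexive (Y.presheaf.stalk y) (((Scheme.Modules.restrictFunctor j).obj M).presheaf.stalk y) ↔
      Module.IsReflexive (X.presheaf.stalk (j y)) (M.presheaf.stalk (j y)) := by
  let σ : X.presheaf.stalk (j y) ≃+* Y.presheaf.stalk y := (asIso (j.stalkMap y)).commRingCatIsoToRingEquiv
  let e : ((Scheme.Modules.restrictFunctor j).obj M).presheaf.stalk y ≃+ M.presheaf.stalk (j y) :=
    AddEquiv.ofBijective (QCohLib.restrictStalkIso j M y).hom.hom (QCohLib.restrictStalkIso_bijective j M y)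
  refine isReflexive_semilinear_iff σ.symm e fun r a => ?_
  obtain ⟨r, rfl⟩ := σ.surjective r
  rw [σ.symm_apply_apply]
  exact FlatDescent.restrictStalk_smul j M y r a

theorem two_le_depth_stalk_of_isReflexive [IsLocallyNoetherian X] (F : X.Modules) (hF : Coh.IsCoh F) (x : X)
    [Module.IsReflexive (X.presheaf.stalk x) (F.presheaf.stalk x)]
    (h : (2 : ℕ∞) ≤ LocCoh.depth (X.presheaf.stalk x) (X.presheaf.stalk x)) :
    (2 : ℕ∞) ≤ LocCoh.depth (X.presheaf.stalk x) (F.presheaf.stalk x) := by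
  haveI := CohFinite.finite_stalk hF x
  exact two_le_depth_of_isReflexive h

variable [IsIntegral X] [IsLocallyNoetherian X] (U : X.Opens)
  (hU : ∀ x : X, x ∉ U → (2 : ℕ∞) ≤ LocCoh.depth (X.presheaf.stalk x) (X.presheaf.stalk x))
  (G : (U : Scheme.{u}).Modules)
  (hG : Coh.IsCoh G)
  (hr : ∀ x : (U : Scheme.{u}), Module.IsReflexive ((U : Scheme.{u}).presheaf.stalk x) (G.presheaf.stalk x))

include hr in
omit [IsIntegral X] [IsLocallyNoetherian X] in
theorem isReflexive_stalk_push {z : X} (hz : z ∈ U) :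
    Module.IsReflexive (X.presheaf.stalk z) (((Scheme.Modules.pushforward U.ι).obj G).presheaf.stalk z) := by
  haveI := hr ⟨z, hz⟩
  haveI := isReflexive_stalk_of_iso (ParaFLib.pushforwardRestrictIso U.ι G).symm (⟨z, hz⟩ : (U : Scheme.{u}))
  exact (isReflexive_stalk_restrict_iff U.ι ((Scheme.Modules.pushforward U.ι).obj G) ⟨z, hz⟩).mp ‹_›

omit [IsIntegral X] in
include hU hr hG in
theorem isCoh_isReflexive_pushforward [IsIntegral X] :
    Coh.IsCoh ((Scheme.Modules.pushforward U.ι).obj G) ∧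
      ∀ x : X, Module.IsReflexive (X.presheaf.stalk x)
        (((Scheme.Modules.pushforward U.ι).obj G).presheaf.stalk x) := by
  classical
  haveI := hG.1
  let P := (Scheme.Modules.pushforward U.ι).obj G
  haveI hPq : P.IsQuasicoherent := QCohLib.isQuasicoherent_pushforward U.ι
  have hsec : ∀ V : X.Opens, Function.Bijective (P.presheaf.map (homOfLE (inf_le_left : V ⊓ U ≤ V)).op) := by
    have := ParaFLib.secBij_pushforward U.ι G
    rw [Scheme.Opens.opensRange_ι] at this
    exact this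
  have hsub : ∀ (W : X.Opens) (hW : ¬ Nonempty W) (n : Γ(P, W)), n = 0 := fun W hW n =>
    (hsec W).1 (QCohLib.section_ext _ _ fun z hz => absurd ⟨⟨z, hz.1⟩⟩ hW)
  have htf : ∀ (W : X.Opens), Nonempty W → ∀ (a : Γ(X, W)) (n : Γ(P, W)), a • n = 0 → a = 0 ∨ n = 0 := by
    intro W _ a n h0
    refine or_iff_not_imp_left.mpr fun ha => ?_
    refine (hsec W).1 ((QCohLib.section_ext _ _ fun z hz => ?_).trans (map_zero _).symm)
    rw [map_zero, germ_res_F]
    haveI := isReflexive_stalk_push U G hr hz.2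
    refine (Module.bijective_dual_eval (X.presheaf.stalk z) (P.presheaf.stalk z)).1 ?_
    rw [map_zero]
    refine LinearMap.ext fun φ => ?_
    have h1 := congrArg (P.presheaf.germ W z hz.1) h0
    rw [germ_smul, map_zero] at h1
    have h2 := congrArg φ h1
    rw [map_smul, map_zero, smul_eq_mul] at h2
    refine (mul_eq_zero.mp h2).resolve_left fun h3 => ha ?_
    exact germ_injective_of_isIntegral X z hz.1 (h3.trans (map_zero _).symm)
  have hring : ∀ {W : X.Opens} (hW : IsAffineOpen W) (q : PrimeSpectrum Γ(X, W)), pt hW q ∉ U →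
      (2 : ℕ∞) ≤ LocCoh.depth (Localization.AtPrime q.asIdeal) (Localization.AtPrime q.asIdeal) := by
    intro W hW q hq
    have hzW := pt_mem hW q
    letI : Algebra Γ(X, W) (X.presheaf.stalk (pt hW q)) :=
      TopCat.Presheaf.algebra_section_stalk X.presheaf (⟨pt hW q, hzW⟩ : W)
    haveI : IsLocalization.AtPrime (X.presheaf.stalk (pt hW q)) (hW.primeIdealOf ⟨pt hW q, hzW⟩).asIdeal :=
      hW.isLocalization_stalk ⟨pt hW q, hzW⟩
    have e : (hW.primeIdealOf ⟨pt hW q, hzW⟩) = q := primeIdealOf_pt hW q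
    have h2 := hU _ hq
    rw [Groth.Agent.FlatAscent.depth_eq_of_ringEquiv
      (IsLocalization.algEquiv (hW.primeIdealOf ⟨pt hW q, hzW⟩).asIdeal.primeCompl
        (Localization.AtPrime (hW.primeIdealOf ⟨pt hW q, hzW⟩).asIdeal) (X.presheaf.stalk (pt hW q))).toRingEquiv] at h2
    obtain ⟨pr, hpr⟩ : ∃ pr, pr = hW.primeIdealOf ⟨pt hW q, hzW⟩ := ⟨_, rfl⟩
    rw [← hpr] at h2 e
    subst e
    exact h2
  have hfin : ∀ W : X.affineOpens, Module.Finite Γ(X, W.1) Γ(P, W.1) := by
    rintro ⟨W, hW⟩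
    by_cases hne : Nonempty W
    swap
    · haveI : Subsingleton Γ(P, W) := ⟨fun a b => (hsub W hne a).trans (hsub W hne b).symm⟩
      infer_instance
    haveI := hne
    haveI : IsNoetherianRing Γ(X, W) := IsLocallyNoetherian.component_noetherian (X := X) ⟨W, hW⟩
    let J : Ideal Γ(X, W) := Ideal.span {f | X.basicOpen f ≤ U}
    have hdep : (2 : ℕ∞) ≤ LocCoh.idealDepth J Γ(X, W) := by
      rw [← Nat.cast_two, DepthLib.natCast_le_idealDepth_iff_forall_localization]
      intro p hp hle
      have hq : pt hW ⟨p, hp⟩ ∉ U := fun hzU => by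
        obtain ⟨f, hfle, hzf⟩ := hW.exists_basicOpen_le (V := U) ⟨_, hzU⟩ (pt_mem hW ⟨p, hp⟩)
        rw [InvExtend.mem_basicOpen_iff hW (pt_mem hW ⟨p, hp⟩), primeIdealOf_pt hW ⟨p, hp⟩] at hzf
        exact hzf (hle (Ideal.subset_span hfle))
      rw [DepthLib.depth_localization_self]
      exact_mod_cast hring hW ⟨p, hp⟩ hq
    obtain ⟨x, hxJ, hxr, y, hyJ, hy⟩ := DepthLib.two_le_idealDepth_iff.mp hdep
    have hx0 : x ≠ 0 := by
      rintro rfl
      exact one_ne_zero (hxr (show (0 : Γ(X, W)) • (1 : Γ(X, W)) = (0 : Γ(X, W)) • (0 : Γ(X, W)) by simp))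
    obtain ⟨S, hSsub, hS⟩ := (Submodule.fg_span_iff_fg_span_finset_subset _).mp
      (IsNoetherian.noetherian J : (Submodule.span Γ(X, W) {f | X.basicOpen f ≤ U}).FG)
    -- finitely many numerators on each basic open
    have hgen : ∀ f ∈ S, ∃ T : Finset Γ(P, W), ∀ n : Γ(P, W),
        ∃ k : ℕ, f ^ k • n ∈ Submodule.span Γ(X, W) (T : Set Γ(P, W)) := by
      intro f hf
      have hfU : X.basicOpen f ≤ U := hSsub hf
      have haff : IsAffineOpen (U.ι ⁻¹ᵁ X.basicOpen f) := (hW.basicOpen f).preimage_of_isOpenImmersion U.ι (by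
        rw [Scheme.Opens.opensRange_ι]; exact hfU)
      haveI := (QCohLib.isCoh_iff.mp hG).2 ⟨_, haff⟩
      have hsurj : Function.Surjective (U.ι.app (X.basicOpen f)) := by
        haveI : IsIso (U.ι.app (X.basicOpen f)) := U.ι.isIso_app _ (by rw [Scheme.Opens.opensRange_ι]; exact hfU)
        exact (ConcreteCategory.bijective_of_isIso (U.ι.app (X.basicOpen f))).2
      obtain ⟨t, ht⟩ := Module.Finite.fg_top (R := Γ((U : Scheme.{u}), U.ι ⁻¹ᵁ X.basicOpen f))
        (M := Γ(G, U.ι ⁻¹ᵁ X.basicOpen f))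
      letI := resModule P (X.basicOpen_le f)
      haveI := isLocalizedModule_res P hW f
      let L := resLinearMap P (X.basicOpen_le f)
      choose num hnum using fun s : Γ(P, X.basicOpen f) => IsLocalizedModule.surj (Submonoid.powers f) L s
      refine ⟨(t : Finset Γ(P, X.basicOpen f)).image fun s => (num s).1, ?_⟩
      let M := Submodule.span Γ(X, W) (((t : Finset Γ(P, X.basicOpen f)).image fun s => (num s).1 : Finset Γ(P, W)) : Set Γ(P, W))
      have hall : ∀ s : Γ(P, X.basicOpen f), ∃ k : ℕ, ∃ m ∈ M, f ^ k • s = L m := by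
        intro s
        have hs : (id (α := Γ(G, U.ι ⁻¹ᵁ X.basicOpen f)) s) ∈ Submodule.span Γ((U : Scheme.{u}), U.ι ⁻¹ᵁ X.basicOpen f)
            (t : Set Γ(G, U.ι ⁻¹ᵁ X.basicOpen f)) := ht ▸ Submodule.mem_top
        refine Submodule.span_induction (p := fun (s : Γ(G, U.ι ⁻¹ᵁ X.basicOpen f)) _ =>
          ∃ k : ℕ, ∃ m ∈ M, f ^ k • (id (α := Γ(P, X.basicOpen f)) s) = L m) ?_ ?_ ?_ ?_ hs
        · intro s hs
          obtain ⟨k, hk⟩ := (num s).2.2
          refine ⟨k, (num s).1, Submodule.subset_span (Finset.mem_image_of_mem _ hs), ?_⟩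
          rw [show f ^ k = ((num s).2 : Γ(X, W)) from hk]
          exact hnum s
        · exact ⟨0, 0, M.zero_mem, by rw [map_zero]; exact smul_zero _⟩
        · rintro a b - - ⟨k, m, hm, e⟩ ⟨k', m', hm', e'⟩
          refine ⟨k + k', f ^ k' • m + f ^ k • m', M.add_mem (M.smul_mem _ hm) (M.smul_mem _ hm'), ?_⟩
          rw [map_add, map_smul, map_smul, ← e, ← e', ← mul_smul, ← mul_smul, ← pow_add, ← pow_add, add_comm k' k]
          exact smul_add _ _ _
        · rintro r a - ⟨k, m, hm, e⟩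
          obtain ⟨r, rfl⟩ := hsurj r
          haveI : IsLocalization.Away f Γ(X, X.basicOpen f) := hW.isLocalization_basicOpen f
          obtain ⟨⟨b, ⟨_, l, rfl⟩⟩, hb⟩ := IsLocalization.surj (Submonoid.powers f) r
          have hb' : X.presheaf.map (homOfLE (X.basicOpen_le f)).op (f ^ l) * r =
              X.presheaf.map (homOfLE (X.basicOpen_le f)).op b := by
            rw [mul_comm]; exact hb
          refine ⟨l + k, b • m, M.smul_mem b hm, ?_⟩
          rw [map_smul, ← e]
          show X.presheaf.map (homOfLE (X.basicOpen_le f)).op (f ^ (l + k)) • (r • (id (α := Γ(P, X.basicOpen f)) a)) =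
            X.presheaf.map (homOfLE (X.basicOpen_le f)).op b •
              (X.presheaf.map (homOfLE (X.basicOpen_le f)).op (f ^ k) • (id (α := Γ(P, X.basicOpen f)) a))
          rw [smul_smul, smul_smul, ← hb', pow_add, map_mul]
          congr 1
          ring
      intro n
      obtain ⟨k, m, hm, e⟩ := hall (L n)
      rw [← map_smul] at e
      obtain ⟨⟨_, l, rfl⟩, hl⟩ := (IsLocalizedModule.eq_iff_exists (Submonoid.powers f) L).mp e
      refine ⟨l + k, ?_⟩
      rw [pow_add, mul_smul]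
      exact (show f ^ l • (f ^ k • n) = f ^ l • m from hl) ▸ M.smul_mem _ hm
    choose! T hT using hgen
    let M : Submodule Γ(X, W) Γ(P, W) := Submodule.span _ (↑(S.biUnion T) : Set Γ(P, W))
    refine finite_of_two_regular (htf W hne) M (Submodule.fg_span (S.biUnion T).finite_toSet) hx0 hy fun n => ?_
    let I : Ideal Γ(X, W) :=
      { carrier := {r | r • n ∈ M}
        add_mem' := fun ha hb => by simp only [Set.mem_setOf_eq, add_smul] at *; exact M.add_mem ha hb
        zero_mem' := by simp [zero_smul]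
        smul_mem' := fun c r hr => by simp only [Set.mem_setOf_eq, smul_eq_mul, mul_smul] at *; exact M.smul_mem c hr }
    have hJI : J ≤ I.radical := by
      show Submodule.span _ _ ≤ _
      refine le_trans hS.le (Submodule.span_le.mpr ?_)
      intro f hf
      obtain ⟨k, hk⟩ := hT f hf n
      exact ⟨k, Submodule.span_mono (Finset.coe_subset.mpr (Finset.subset_biUnion_of_mem T hf)) hk⟩
    obtain ⟨a, ha⟩ := hJI hxJ
    obtain ⟨b, hb⟩ := hJI hyJ
    exact ⟨a, b, ha, hb⟩
  have hcoh : Coh.IsCoh P := QCohLib.isCoh_iff.mpr ⟨hPq, hfin⟩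
  refine ⟨hcoh, fun x => ?_⟩
  obtain ⟨W, hW, hxW, -⟩ := exists_isAffineOpen_mem_and_subset (X := X) (x := x) (U := ⊤) trivial
  haveI : Nonempty W := ⟨⟨x, hxW⟩⟩
  haveI : IsNoetherianRing Γ(X, W) := IsLocallyNoetherian.component_noetherian (X := X) ⟨W, hW⟩
  haveI : Module.Finite Γ(X, W) Γ(P, W) := hfin ⟨W, hW⟩
  have hiff : ∀ (z : X) (hz : z ∈ W),
      Module.IsReflexive (X.presheaf.stalk z) (P.presheaf.stalk z) ↔
      Module.IsReflexive (Localization.AtPrime (hW.primeIdealOf ⟨z, hz⟩).asIdeal)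
        (LocalizedModule (hW.primeIdealOf ⟨z, hz⟩).asIdeal.primeCompl Γ(P, W)) := by
    intro z hz
    letI : Algebra Γ(X, W) (X.presheaf.stalk z) := TopCat.Presheaf.algebra_section_stalk X.presheaf (⟨z, hz⟩ : W)
    haveI : IsLocalization.AtPrime (X.presheaf.stalk z) (hW.primeIdealOf ⟨z, hz⟩).asIdeal :=
      hW.isLocalization_stalk ⟨z, hz⟩
    letI := QCohLib.germModule P z hz
    haveI := QCohLib.isLocalizedModule_germ (M := P) hW z hz
    haveI : IsScalarTower Γ(X, W) (X.presheaf.stalk z) (P.presheaf.stalk z) :=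
      IsScalarTower.of_algebraMap_smul fun _ _ => rfl
    exact isReflexive_isLocalizedModule_iff (hW.primeIdealOf ⟨z, hz⟩).asIdeal (X.presheaf.stalk z)
      (QCohLib.germLinearMap P z hz)
  haveI : Module.IsReflexive Γ(X, W) Γ(P, W) := by
    refine DepthLib.isReflexive_of_forall_localization fun p hp => ?_
    let q : PrimeSpectrum Γ(X, W) := ⟨p, hp⟩
    by_cases hzU : pt hW q ∈ U
    · left
      have := (hiff (pt hW q) (pt_mem hW q)).mp (isReflexive_stalk_push U G hr hzU)
      have e : hW.primeIdealOf ⟨pt hW q, pt_mem hW q⟩ = q := primeIdealOf_pt hW q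
      obtain ⟨pr, hpr⟩ : ∃ pr, pr = hW.primeIdealOf ⟨pt hW q, pt_mem hW q⟩ := ⟨_, rfl⟩
      rw [← hpr] at this e
      subst e
      exact this
    · right
      refine ⟨?_, le_trans (by norm_num) (hring hW q hzU)⟩
      have h2 := two_le_depth_of_bijective_restrict P hcoh hsec hzU
      rw [← depth_localization_eq P hW _ (pt_mem hW q)] at h2
      have e : hW.primeIdealOf ⟨pt hW q, pt_mem hW q⟩ = q := primeIdealOf_pt hW q
      obtain ⟨pr, hpr⟩ : ∃ pr, pr = hW.primeIdealOf ⟨pt hW q, pt_mem hW q⟩ := ⟨_, rfl⟩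
      rw [← hpr] at h2 e
      subst e
      exact h2
  exact (hiff x hxW).mpr (DepthLib.isReflexive_localization _)

end Groth.Agent.DepthSections
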