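import Groth.Agent.DepthSections.ZPure
import Groth.Agent.DepthSections.DepthNhd
import Groth.Agent.ZClosLib.Criteria
import Mathlib

/-! Pointwise `Z`-closedness is depth two at the generizations in `Z`. -/

set_option linter.style.haveILetI false
set_option backward.isDefEq.respectTransparency false

namespace Groth.Agent.DepthSections

open AlgebraicGeometry CategoryTheory TopologicalSpace Opposite
open Groth.Agent.QCohLib (germ_smul)
open scoped Pointwise

universe u

variable {X : Scheme.{u}} (F : X.Modules)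

/-- Sections `h f / f` agreeing on overlaps glue on an open covered by the `D(f)`. -/
theorem exists_glue_div {W N : X.Opens} (hNW : N ≤ W) (S : Finset Γ(X, W)) (h : Γ(X, W) → Γ(F, W))
    (hC : ∀ f ∈ S, ∀ f' ∈ S, f • h f' = f' • h f)
    (hcov : ∀ z ∈ N, ∃ f ∈ S, z ∈ X.basicOpen f) :
    ∃ T : Γ(F, N), ∀ f ∈ S, ∀ z (hz : z ∈ N), z ∈ X.basicOpen f →
      X.presheaf.germ W z (hNW hz) f • F.presheaf.germ N z hz T = F.presheaf.germ W z (hNW hz) (h f) := by
  let D : S → X.Opens := fun f => N ⊓ X.basicOpen f.1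
  have hDW : ∀ f, D f ≤ W := fun f => inf_le_left.trans hNW
  have hunit : ∀ f : S, IsUnit (X.presheaf.map (homOfLE (hDW f)).op f.1) := fun f => by
    refine X.toRingedSpace.isUnit_of_isUnit_germ _ _ fun z hz => ?_
    erw [TopCat.Presheaf.germ_res_apply]
    exact (X.mem_basicOpen f.1 z (hDW f hz)).mp hz.2
  let t : ∀ f : S, Γ(F, D f) := fun f =>
    ((hunit f).unit⁻¹ : (Γ(X, D f))ˣ).1 • F.presheaf.map (homOfLE (hDW f)).op (h f.1)
  have ht : ∀ f : S, X.presheaf.map (homOfLE (hDW f)).op f.1 • t f =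
      F.presheaf.map (homOfLE (hDW f)).op (h f.1) := fun f => by
    simp only [t, smul_smul, IsUnit.mul_val_inv, one_smul]
  have hgerm : ∀ (f : S) (z : X) (hz : z ∈ D f),
      X.presheaf.germ W z (hDW f hz) f.1 • F.presheaf.germ (D f) z hz (t f) =
        F.presheaf.germ W z (hDW f hz) (h f.1) := fun f z hz => by
    have := congrArg (F.presheaf.germ (D f) z hz) (ht f)
    rw [germ_smul, germ_res_X, germ_res_F] at this
    exact this
  let Fs : TopCat.Sheaf Ab X.carrier := ⟨F.presheaf, Scheme.Modules.isSheaf F⟩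
  have hcomp : TopCat.Presheaf.IsCompatible Fs.obj D t := by
    intro f f'
    refine Groth.Agent.QCohLib.section_ext _ _ fun z hz => ?_
    erw [TopCat.Presheaf.germ_res_apply, TopCat.Presheaf.germ_res_apply]
    have u := (X.mem_basicOpen f.1 z (hDW f hz.1)).mp hz.1.2
    have u' := (X.mem_basicOpen f'.1 z (hDW f' hz.2)).mp hz.2.2
    refine (u.mul u').smul_left_cancel.mp ?_
    have e1 := hgerm f z hz.1
    have e2 := hgerm f' z hz.2
    have e3 := congrArg (F.presheaf.germ W z (hDW f hz.1)) (hC f.1 f.2 f'.1 f'.2)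
    rw [germ_smul, germ_smul] at e3
    rw [mul_smul, smul_comm, e1]
    rw [mul_smul, e2]
    exact e3.symm
  obtain ⟨T, hT, -⟩ := Fs.existsUnique_gluing' D N (fun f => homOfLE inf_le_left)
    (fun z hz => by
      obtain ⟨f, hf, hzf⟩ := hcov z hz
      exact Opens.mem_iSup.mpr ⟨⟨f, hf⟩, hz, hzf⟩) t hcomp
  refine ⟨T, fun f hf z hz hzf => ?_⟩
  have hzD : z ∈ D ⟨f, hf⟩ := ⟨hz, hzf⟩
  rw [← germ_res_F F (inf_le_left : D ⟨f, hf⟩ ≤ N) z hzD T]
  have e1 := hgerm ⟨f, hf⟩ z hzD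
  rw [← hT ⟨f, hf⟩] at e1
  exact e1

variable (Z : Set X)

theorem two_le_depth_of_isZClosedAt [IsLocallyNoetherian X] (hZ : StableUnderSpecialization Z) (hF : Coh.IsCoh F)
    (x : X) (h : ZClos.IsZClosedAt Z F x) (y : X) (hyx : y ⤳ x) (hyZ : y ∈ Z) :
    (2 : ℕ∞) ≤ LocCoh.depth (X.presheaf.stalk y) (F.presheaf.stalk y) := by
  classical
  haveI := hF.1
  haveI := CohFinite.finite_stalk hF y
  have h1 := (isZPureAt_iff F Z hZ hF x).mp h.1 y hyx hyZ
  obtain ⟨x₀, hx₀, hreg₀⟩ := DepthLib.one_le_idealDepth_iff.mp h1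
  obtain ⟨W, hW, hxW, -⟩ := exists_isAffineOpen_mem_and_subset (X := X) (x := x) (U := ⊤) trivial
  haveI : IsNoetherianRing Γ(X, W) := IsLocallyNoetherian.component_noetherian (X := X) ⟨W, hW⟩
  have hyW : y ∈ W := hyx.mem_open W.isOpen hxW
  let p := (hW.primeIdealOf ⟨y, hyW⟩).asIdeal
  letI : Algebra Γ(X, W) (X.presheaf.stalk y) := TopCat.Presheaf.algebra_section_stalk X.presheaf (⟨y, hyW⟩ : W)
  haveI : IsLocalization.AtPrime (X.presheaf.stalk y) p := hW.isLocalization_stalk ⟨y, hyW⟩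
  letI := QCohLib.germModule F y hyW
  haveI := QCohLib.isLocalizedModule_germ (M := F) hW y hyW
  let gX : Γ(X, W) →+* X.presheaf.stalk y := (X.presheaf.germ W y hyW).hom
  have hunit : ∀ c : p.primeCompl, IsUnit (gX c) := fun c =>
    (X.mem_basicOpen _ y hyW).mp ((InvExtend.mem_basicOpen_iff hW hyW _).mpr c.2)
  have hmax : ∀ f ∈ p, gX f ∈ IsLocalRing.maximalIdeal (X.presheaf.stalk y) := fun f hf => by
    rw [IsLocalRing.mem_maximalIdeal, mem_nonunits_iff]
    intro hu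
    exact (InvExtend.mem_basicOpen_iff hW hyW f).mp ((X.mem_basicOpen f y hyW).mpr hu) hf
  -- a regular element coming from sections
  obtain ⟨⟨a, ca⟩, hca⟩ := IsLocalization.surj p.primeCompl x₀
  have hga : gX a = x₀ * gX ca := hca.symm
  have hreg : IsSMulRegular (F.presheaf.stalk y) (gX a) := by
    rw [hga]
    intro m m' e
    simp only [mul_smul] at e
    exact (hunit ca).smul_left_cancel.mp (hreg₀ e)
  have hgam : gX a ∈ IsLocalRing.maximalIdeal (X.presheaf.stalk y) := hga ▸ Ideal.mul_mem_right _ _ hx₀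
  have key : ∀ g : F.presheaf.stalk y,
      (∀ r ∈ IsLocalRing.maximalIdeal (X.presheaf.stalk y), ∃ v, r • g = gX a • v) → ∃ v, g = gX a • v := by
    intro g hg
    obtain ⟨S, hS⟩ := IsNoetherian.noetherian p
    obtain ⟨⟨s, cs⟩, hcs⟩ := IsLocalizedModule.surj p.primeCompl (QCohLib.germLinearMap F y hyW) g
    have hgs : gX cs • g = F.presheaf.germ W y hyW s := hcs
    have hdiv : ∀ f ∈ S, ∃ (m : Γ(F, W)) (c d : p.primeCompl),
        (d : Γ(X, W)) • ((c : Γ(X, W)) • (f • s) - a • m) = 0 := by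
      intro f hf
      obtain ⟨v, hv⟩ := hg _ (hmax f (hS ▸ Ideal.subset_span hf))
      obtain ⟨⟨m, c⟩, hc⟩ := IsLocalizedModule.surj p.primeCompl (QCohLib.germLinearMap F y hyW) (gX cs • v)
      have hc' : gX c • (gX cs • v) = F.presheaf.germ W y hyW m := hc
      refine ⟨m, c, ?_⟩
      obtain ⟨d, hd⟩ := (IsLocalizedModule.eq_zero_iff p.primeCompl (QCohLib.germLinearMap F y hyW)).mp
        (show QCohLib.germLinearMap F y hyW ((c : Γ(X, W)) • (f • s) - a • m) = 0 by
          show F.presheaf.germ W y hyW _ = 0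
          rw [map_sub, germ_smul, germ_smul, germ_smul, ← hgs, ← hc', sub_eq_zero]
          show gX c • gX f • gX cs • g = gX a • gX c • gX cs • v
          rw [smul_comm (gX f) (gX cs), hv, smul_comm (gX cs) (gX a), smul_comm (gX c) (gX a)])
      exact ⟨d, hd⟩
    choose! m c d hd using hdiv
    let E : p.primeCompl := ∏ f ∈ S, d f * c f
    let s₁ : Γ(F, W) := (E : Γ(X, W)) • s
    let H : Γ(X, W) → Γ(F, W) := fun f => ((∏ g ∈ S.erase f, d g * c g : p.primeCompl) : Γ(X, W)) •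
      ((d f : Γ(X, W)) • m f)
    have hH : ∀ f ∈ S, f • s₁ = a • H f := by
      intro f hf
      have hE : E = (∏ g ∈ S.erase f, d g * c g) * (d f * c f) := (Finset.prod_erase_mul _ _ hf).symm
      have hdf := hd f hf
      rw [smul_sub, sub_eq_zero] at hdf
      simp only [s₁, H, hE, Submonoid.coe_mul, mul_smul]
      linear_combination (norm := module) ((∏ g ∈ S.erase f, d g * c g : p.primeCompl) : Γ(X, W)) • hdf
    have hcross : ∀ f ∈ S, ∀ f' ∈ S, ∃ e : p.primeCompl, (e : Γ(X, W)) • (f • H f' - f' • H f) = 0 := by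
      intro f hf f' hf'
      obtain ⟨e, he⟩ := (IsLocalizedModule.eq_zero_iff p.primeCompl (QCohLib.germLinearMap F y hyW)).mp
        (show QCohLib.germLinearMap F y hyW (f • H f' - f' • H f) = 0 by
          refine hreg (Eq.trans ?_ (smul_zero (gX a)).symm)
          show gX a • F.presheaf.germ W y hyW _ = 0
          refine (germ_smul W y hyW a _).symm.trans ?_
          have : a • (f • H f' - f' • H f) = 0 := by
            linear_combination (norm := module) f' • hH f hf - f • hH f' hf'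
          rw [this, map_zero])
      exact ⟨e, he⟩
    choose! e he using hcross
    let E₂ : p.primeCompl := ∏ q ∈ S ×ˢ S, e q.1 q.2
    let s₂ : Γ(F, W) := (E₂ : Γ(X, W)) • s₁
    let H₂ : Γ(X, W) → Γ(F, W) := fun f => (E₂ : Γ(X, W)) • H f
    have hH₂ : ∀ f ∈ S, f • s₂ = a • H₂ f := fun f hf => by
      simp only [s₂, H₂]
      linear_combination (norm := module) (E₂ : Γ(X, W)) • hH f hf
    have hC₂ : ∀ f ∈ S, ∀ f' ∈ S, f • H₂ f' = f' • H₂ f := fun f hf f' hf' => by
      have hE : E₂ = (∏ q ∈ (S ×ˢ S).erase (f, f'), e q.1 q.2) * e f f' :=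
        (Finset.prod_erase_mul (S ×ˢ S) (fun q => e q.1 q.2) (Finset.mem_product.mpr ⟨hf, hf'⟩ : (f, f') ∈ S ×ˢ S)).symm
      have h0 := he f hf f' hf'
      rw [smul_sub, sub_eq_zero] at h0
      simp only [H₂, hE, Submonoid.coe_mul, mul_smul]
      linear_combination (norm := module) ((∏ q ∈ (S ×ˢ S).erase (f, f'), e q.1 q.2 : p.primeCompl) : Γ(X, W)) • h0
    let T : ZClos.Cl Z := ⟨⟨closure {y}, isClosed_closure⟩, fun z hz =>
      hZ (specializes_iff_mem_closure.mpr hz) hyZ⟩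
    have hcov : ∀ z ∈ ZClosLib.cut T.U W, ∃ f ∈ S, z ∈ X.basicOpen f := by
      intro z hz
      obtain ⟨hzT, hzW⟩ := ZClosLib.mem_cut.mp hz
      by_contra! hne
      refine hzT (specializes_iff_mem_closure.mp ((InvExtend.specializes_iff hW hzW hyW).mpr ?_))
      show p ≤ _
      rw [← hS]
      refine Ideal.span_le.mpr fun f hf => ?_
      by_contra hfz
      exact hne f hf ((InvExtend.mem_basicOpen_iff hW hzW f).mpr hfz)
    obtain ⟨t, ht⟩ := exists_glue_div F (ZClosLib.cut_le T.U W) S H₂ hC₂ hcov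
    obtain ⟨b, hb⟩ := h.2 (((ZClos.H0 Z).obj F).presheaf.germ W x hxW ((ZClosLib.inc F T).app W t))
    obtain ⟨O₀, hxO₀, t₀, rfl⟩ := F.presheaf.exists_germ_eq b
    let O := O₀ ⊓ W
    have hxO : x ∈ O := ⟨hxO₀, hxW⟩
    let t' : Γ(F, O) := ZClosLib.res F inf_le_left t₀
    let tO : Γ(F, ZClosLib.cut T.U O) := ZClosLib.res F
      (fun z hz => ZClosLib.mem_cut.mpr ⟨(ZClosLib.mem_cut.mp hz).1, (ZClosLib.mem_cut.mp hz).2.2⟩) t
    have hdiff : ((ZClos.H0 Z).obj F).presheaf.germ O x hxO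
        ((ZClosLib.inc F T).app O (ZClosLib.res F (ZClosLib.cut_le T.U O) t' - tO)) = 0 := by
      rw [map_sub, map_sub, ← ZClosLib.rho_app_eq, sub_eq_zero]
      have hl : ((ZClos.H0 Z).obj F).presheaf.germ O x hxO ((ZClos.rhoApp Z F).app O t') =
          QCohLib.stalkHom (ZClos.rhoApp Z F) x (F.presheaf.germ O₀ x hxO₀ t₀) := by
        rw [← ZClosLib.germ_res F (inf_le_left : O ≤ O₀) x hxO, QCohLib.stalkHom_germ]
      rw [hl]
      refine hb.trans ?_
      rw [← ZClosLib.germ_res ((ZClos.H0 Z).obj F) (inf_le_right : O ≤ W) x hxO, ← ZClosLib.app_res]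
      rfl
    obtain ⟨T₂, _, W₂, hW₂, hxW₂, hz₂⟩ := ZClosLib.exists_res_eq_zero x T O hxO _ hdiff
    -- `a t' - s₂` vanishes off `Z` near `x`
    let δ : Γ(F, O) := X.presheaf.map (homOfLE (inf_le_right : O ≤ W)).op a • t' -
      F.presheaf.map (homOfLE (inf_le_right : O ≤ W)).op s₂
    have hδg : ∀ z (hz : z ∈ O), F.presheaf.germ O z hz δ =
        X.presheaf.germ W z hz.2 a • F.presheaf.germ O z hz t' - F.presheaf.germ W z hz.2 s₂ := fun z hz => by
      show F.presheaf.germ O z hz (_ - _) = _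
      rw [map_sub, germ_smul, germ_res_X, germ_res_F F _ z hz s₂]
    have hδ : ∀ z (hz : z ∈ W₂), z ∈ T₂.U → z ∈ T.U → F.presheaf.germ O z (hW₂ hz) δ = 0 := by
      intro z hz hzT₂ hzT
      have hzc : z ∈ ZClosLib.cut T₂.U W₂ := ZClosLib.mem_cut.mpr ⟨hzT₂, hz⟩
      have hzO := hW₂ hz
      have hzTW : z ∈ ZClosLib.cut T.U W := ZClosLib.mem_cut.mpr ⟨hzT, hzO.2⟩
      have hzTO : z ∈ ZClosLib.cut T.U O := ZClosLib.mem_cut.mpr ⟨hzT, hzO⟩
      have e0 := congrArg (F.presheaf.germ (ZClosLib.cut T₂.U W₂) z hzc) hz₂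
      rw [map_zero, ZClosLib.germ_res, map_sub, sub_eq_zero] at e0
      have e0' : F.presheaf.germ O z hzO t' = F.presheaf.germ (ZClosLib.cut T.U W) z hzTW t :=
        (ZClosLib.germ_res F (ZClosLib.cut_le T.U O) z hzTO t').symm.trans
          (e0.trans (ZClosLib.germ_res F _ z hzTO t))
      obtain ⟨f, hf, hzf⟩ := hcov z hzTW
      have e1 := ht f hf z hzTW hzf
      have e2 : X.presheaf.germ W z hzO.2 f • F.presheaf.germ W z hzO.2 s₂ =
          X.presheaf.germ W z hzO.2 a • F.presheaf.germ W z hzO.2 (H₂ f) :=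
        (germ_smul W z hzO.2 f s₂).symm.trans
          ((congrArg (F.presheaf.germ W z hzO.2) (hH₂ f hf)).trans (germ_smul W z hzO.2 a (H₂ f)))
      rw [hδg z hzO, sub_eq_zero]
      refine ((X.mem_basicOpen f z hzO.2).mp hzf).smul_left_cancel.mp ?_
      rw [e2, ← e1, e0', smul_comm]
    have hδx : F.presheaf.germ O x hxO δ = 0 := by
      refine h.1 (Eq.trans ?_ (map_zero _).symm)
      show QCohLib.stalkHom (ZClos.rhoApp Z F) x _ = 0
      rw [← ZClosLib.germ_res F hW₂ x hxW₂, QCohLib.stalkHom_germ, ZClosLib.rho_app_eq (T ⊔ T₂)]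
      have hres : ZClosLib.res F (ZClosLib.cut_le (T ⊔ T₂).U W₂) (ZClosLib.res F hW₂ δ) = 0 := by
        refine QCohLib.section_ext _ _ fun z hz => ?_
        rw [map_zero, ZClosLib.germ_res, ZClosLib.germ_res]
        obtain ⟨hzT, hzW⟩ := ZClosLib.mem_cut.mp hz
        exact hδ z hzW (ZClos.Cl.U_anti le_sup_right hzT) (ZClos.Cl.U_anti le_sup_left hzT)
      rw [hres, map_zero, map_zero]
    obtain ⟨P, hxP, i₁, i₂, hP⟩ := TopCat.Presheaf.germ_eq F.presheaf x hxO hxO δ 0 (hδx.trans (map_zero _).symm)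
    have hyO : y ∈ O := hyx.mem_open O.isOpen hxO
    have hδy : F.presheaf.germ O y hyO δ = 0 := by
      rw [← TopCat.Presheaf.germ_res_apply F.presheaf i₁ y (hyx.mem_open P.isOpen hxP) δ, hP, map_zero, map_zero]
    rw [hδg y hyO, sub_eq_zero] at hδy
    have hU : IsUnit (gX E₂ * gX E * gX cs) := ((hunit E₂).mul (hunit E)).mul (hunit cs)
    refine ⟨(hU.unit⁻¹ : (X.presheaf.stalk y)ˣ).1 • F.presheaf.germ O y hyO t', ?_⟩
    refine hU.smul_left_cancel.mp ?_
    rw [smul_comm _ (gX a), smul_smul _ (hU.unit⁻¹).1, IsUnit.mul_val_inv, one_smul]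
    refine Eq.trans ?_ hδy.symm
    simp only [s₂, s₁, mul_smul]
    rw [hgs, germ_smul, germ_smul]
  refine DepthLib.two_le_idealDepth_iff.mpr ⟨gX a, hgam, hreg, ?_⟩
  have hQ : ∀ q : QuotSMulTop (gX a) (F.presheaf.stalk y),
      (∀ r ∈ IsLocalRing.maximalIdeal (X.presheaf.stalk y), r • q = 0) → q = 0 := by
    intro q hq
    obtain ⟨g, rfl⟩ := Submodule.Quotient.mk_surjective _ q
    obtain ⟨v, rfl⟩ := key g fun r hr => by
      have := hq r hr
      rw [← Submodule.Quotient.mk_smul, Submodule.Quotient.mk_eq_zero,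
        Submodule.mem_smul_pointwise_iff_exists] at this
      obtain ⟨v, -, hv⟩ := this
      exact ⟨v, hv.symm⟩
    rw [Submodule.Quotient.mk_eq_zero]
    exact Submodule.smul_mem_pointwise_smul _ _ _ Submodule.mem_top
  refine DepthLib.one_le_idealDepth_iff.mp (DepthLib.one_le_idealDepth_iff_forall_associatedPrimes.mpr
    fun P hP hle => ?_)
  obtain ⟨hpr, q, hq⟩ := hP
  have hpm := (IsLocalRing.maximalIdeal.isMaximal _).eq_of_le hpr.ne_top hle
  subst hpm
  obtain ⟨m, hm0, hm⟩ := exists_killed_of_radical_eq (A := X.presheaf.stalk y) (m := q) (by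
    rw [hq]
    congr 1
    ext r
    simp [Submodule.mem_colon_singleton])
  exact hm0 (hQ m hm)

theorem isZClosedAt_iff [IsLocallyNoetherian X] (hZ : StableUnderSpecialization Z) (hF : Coh.IsCoh F) (x : X) :
    ZClos.IsZClosedAt Z F x ↔
      ∀ x' : X, x' ⤳ x → x' ∈ Z → (2 : ℕ∞) ≤ LocCoh.depth (X.presheaf.stalk x') (F.presheaf.stalk x') := by
  refine ⟨fun h => two_le_depth_of_isZClosedAt F Z hZ hF x h, fun h => ⟨?_, fun a => ?_⟩⟩
  · exact (isZPureAt_iff F Z hZ hF x).mpr fun y h1 h2 => le_trans (by norm_num) (h y h1 h2)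
  obtain ⟨T, W, hxW, t, rfl⟩ := ZClosLib.exists_germ x a
  obtain ⟨O, hO, hOW, hxO, hd⟩ := exists_nhd_two_le_depth F hF T.1.isClosed' x
    (fun y hy hyT => h y hy (T.2 hyT)) W hxW
  have hb := bijective_restrict_affine F hF T.U hO fun z hz hzU => hd z hz (not_not.mp hzU)
  obtain ⟨s, hs⟩ := ((ZClosLib.res_iff_of_eq F (ZClosLib.cut_le T.U O) inf_le_left
    (ZClosLib.cut_eq_inf T.U O)).2.mpr hb).2
    (ZClosLib.res F (fun z hz => ZClosLib.mem_cut.mpr ⟨(ZClosLib.mem_cut.mp hz).1, hOW (ZClosLib.mem_cut.mp hz).2⟩) t)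
  refine ⟨F.presheaf.germ O x hxO s, ?_⟩
  show QCohLib.stalkHom (ZClos.rhoApp Z F) x _ = _
  rw [QCohLib.stalkHom_germ, ZClosLib.rho_app_eq T, hs,
    ← ZClosLib.germ_res ((ZClos.H0 Z).obj F) hOW x hxO, ← ZClosLib.app_res]
  rfl

end Groth.Agent.DepthSections
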